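import Mathlib

/-!
# Infinitely `p`-divisible elements in finite field extensions
-/

set_option autoImplicit false
universe u

open Polynomial IntermediateField

namespace Groth.Agent.EtRamLib.Epp.Core

variable {k F : Type u} [Field k] [Field F] [Algebra k F] [FiniteDimensional k F]

/-- an element of a finite extension all of whose iterated roots exist is a root of a monic polynomial with
infinitely divisible coefficients -/
theorem exists_monic_core (p : ℕ) [hp : Fact p.Prime] [CharP k p] (x : F)
    (hx : ∀ n : ℕ, ∃ y : F, y ^ p ^ n = x) :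
    ∀ i : ℕ, ∀ n : ℕ, ∃ c : k, c ^ p ^ n = (minpoly k x).coeff i := by
  haveI : CharP F p := charP_of_injective_algebraMap (algebraMap k F).injective p
  haveI : ExpChar k p := ExpChar.prime hp.out
  haveI : ExpChar F p := ExpChar.prime hp.out
  let S := separableClosure k F
  haveI : ExpChar S p := expChar_of_injective_ringHom (algebraMap k S).injective p
  set N := Module.finrank S F
  have hsep : ∀ y : F, IsSeparable k (y ^ p ^ N) := by
    intro y
    obtain ⟨m, hm⟩ := (isPurelyInseparable_iff_pow_mem S p).mp inferInstance y
    obtain ⟨j, a, hj⟩ := IsPurelyInseparable.minpoly_eq_X_pow_sub_C S p y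
    have hdeg : p ^ j ≤ N := by
      have h1 := minpoly.natDegree_le (A := S) y
      rw [hj, natDegree_X_pow_sub_C] at h1
      exact h1
    have hjN : j ≤ N := (Nat.lt_pow_self hp.out.one_lt).le.trans hdeg
    have hy : y ^ p ^ j = algebraMap S F a := by
      have h1 := minpoly.aeval S y
      rw [hj] at h1
      simpa [sub_eq_zero] using h1
    have : y ^ p ^ N = algebraMap S F (a ^ p ^ (N - j)) := by
      rw [map_pow, ← hy, ← pow_mul, ← pow_add, Nat.add_sub_cancel' hjN]
    rw [this]
    exact mem_separableClosure_iff.mp (a ^ p ^ (N - j)).2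
  intro i n
  obtain ⟨y, hy⟩ := hx (n + N)
  set z := y ^ p ^ N with hz
  have hzx : z ^ p ^ n = x := by rw [hz, ← pow_mul, ← pow_add, add_comm, hy]
  let h := (minpoly k z).map (iterateFrobenius k p n)
  have hzi : IsIntegral k z := IsIntegral.of_finite k z
  have hroot : aeval x h = 0 := by
    have h1 : aeval x h = aeval z (minpoly k z) ^ p ^ n := by
      rw [← map_pow, ← map_iterateFrobenius_expand p (minpoly k z) n, map_expand, expand_aeval, hzx]
    rw [h1, minpoly.aeval, zero_pow (pow_ne_zero _ hp.out.ne_zero)]
  have hdeg : (minpoly k x).natDegree = (minpoly k z).natDegree := by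
    rw [← adjoin.finrank (IsIntegral.of_finite k x), ← adjoin.finrank hzi,
      adjoin_simple_eq_adjoin_pow_expChar_pow_of_isSeparable k F (hsep y) p n, hzx]
  have heq : minpoly k x = h := by
    refine (eq_of_monic_of_dvd_of_natDegree_le (minpoly.monic (IsIntegral.of_finite k x))
      ((minpoly.monic hzi).map _) (minpoly.dvd k x hroot) ?_).symm
    rw [natDegree_map, hdeg]
  exact ⟨(minpoly k z).coeff i, by rw [heq, coeff_map, iterateFrobenius_def]⟩

end Groth.Agent.EtRamLib.Epp.Core
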