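import Groth.Agent.EtRamLib.Epp.Fields
import Groth.Agent.EtRamLib.Epp.Core

/-!
# Residue fields and base change for complete discretely valued subfields
-/

set_option autoImplicit false
universe u

open IsLocalRing

namespace Groth.Agent.EtRamLib.Epp

variable {Ω : Type u} [Field Ω] {O : ValuationSubring Ω}

/-- the residue field of the subfield `E` is algebraically closed in the residue field of `O` -/
def AlgClosedRes (O : ValuationSubring Ω) (E : Subfield Ω) : Prop :=
  ∀ z : ResidueField O, IsIntegral (kappa O E) z → z ∈ kappa O E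

theorem val_lt_one_iff {E : Subfield Ω} (x : R O E) :
    x ∈ maximalIdeal (R O E) ↔ O.valuation ((x : E) : Ω) < 1 := by
  refine Iff.trans ?_ (O.valuation_lt_one_iff ⟨((x : E) : Ω), x.2⟩)
  exact ⟨fun hx hu => hx (isUnit_of_map_unit (EtRam.inclOfComap O E.subtype) x hu), fun hx hu => hx (hu.map (EtRam.inclOfComap O E.subtype))⟩

theorem exists_unif {E : Subfield Ω} (hE : Cpl O E) :
    ∃ ϖ ∈ E, ϖ ≠ 0 ∧ O.valuation ϖ < 1 ∧
      (∀ y ∈ E, O.valuation y < 1 → O.valuation y ≤ O.valuation ϖ) ∧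
      ∀ y ∈ E, y ≠ 0 → ∃ n : ℤ, O.valuation y = O.valuation ϖ ^ n := by
  haveI := hE.dvr
  obtain ⟨ϖ, hϖ⟩ := IsDiscreteValuationRing.exists_irreducible (R O E)
  refine ⟨((ϖ : E) : Ω), (ϖ : E).2, fun h => hϖ.ne_zero (Subtype.ext (Subtype.ext h)),
    (val_lt_one_iff ϖ).1 hϖ.not_isUnit, fun y hy hv => ?_, fun y hy hy0 => ?_⟩
  · have hmem : (⟨⟨y, hy⟩, (O.valuation_le_one_iff _).1 hv.le⟩ : R O E) ∈ maximalIdeal _ := (val_lt_one_iff _).2 hv
    rw [hϖ.maximalIdeal_eq, Ideal.mem_span_singleton] at hmem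
    obtain ⟨c, hc⟩ := hmem
    have h1 : y = ((ϖ : E) : Ω) * ((c : E) : Ω) := congrArg (fun z : R O E => ((z : E) : Ω)) hc
    rw [h1, map_mul]
    exact mul_le_of_le_one_right' ((O.valuation_le_one_iff _).2 c.2)
  · obtain ⟨a, b, hb, hab⟩ := IsFractionRing.div_surjective (R O E) (⟨y, hy⟩ : E)
    have ha0 : a ≠ 0 := fun h => hy0 (by
      have := congrArg Subtype.val hab
      simp [h] at this
      exact this.symm)
    obtain ⟨i, u, rfl⟩ := IsDiscreteValuationRing.eq_unit_mul_pow_irreducible ha0 hϖ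
    obtain ⟨j, w, rfl⟩ := IsDiscreteValuationRing.eq_unit_mul_pow_irreducible (nonZeroDivisors.ne_zero hb) hϖ
    have hu : ∀ u : (R O E)ˣ, O.valuation (((u : R O E) : E) : Ω) = 1 := fun u =>
      le_antisymm ((O.valuation_le_one_iff _).2 (u : R O E).2) (not_lt.1 fun h => ((val_lt_one_iff _).2 h) u.isUnit)
    refine ⟨(i : ℤ) - j, ?_⟩
    have h1 : y = ((((u : R O E) : E) : Ω) * ((ϖ : E) : Ω) ^ i) / ((((w : R O E) : E) : Ω) * ((ϖ : E) : Ω) ^ j) :=
      (congrArg Subtype.val hab).symm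
    rw [h1, map_div₀, map_mul, map_mul, hu, hu, one_mul, one_mul, map_pow, map_pow, zpow_sub₀, zpow_natCast, zpow_natCast]
    exact (Valuation.ne_zero_iff _).2 fun h => hϖ.ne_zero (Subtype.ext (Subtype.ext h))

theorem kappa_isIntegral {E F : Subfield Ω} (hE : Cpl O E) (hF : Fin E F) {z : ResidueField O}
    (hz : z ∈ kappa O F) : IsIntegral (kappa O E) z := by
  obtain ⟨x, hx, rfl⟩ := mem_kappa.mp hz
  obtain ⟨f, hf, hfx⟩ := isIntegral_of_mem hE hF hx x.2
  let ρ : R O E →+* kappa O E := ((residue O).comp (EtRam.inclOfComap O E.subtype)).codRestrict (kappa O E)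
    fun a => ⟨residue _ a, rfl⟩
  refine ⟨f.map ρ, hf.map _, ?_⟩
  rw [Polynomial.eval₂_map]
  have h1 : (Polynomial.eval₂ (EtRam.inclOfComap O E.subtype) x f : O) = 0 := by
    refine Subtype.ext ?_
    change O.subtype _ = (0 : Ω)
    rw [Polynomial.hom_eval₂]
    exact hfx
  rw [show (algebraMap (kappa O E) (ResidueField O)).comp ρ = (residue O).comp (EtRam.inclOfComap O E.subtype) from rfl,
    ← Polynomial.hom_eval₂, h1, map_zero]

theorem kappa_eq_of_algClosed {E F : Subfield Ω} (hE : Cpl O E) (hk : AlgClosedRes O E) (hF : Fin E F) :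
    kappa O F = kappa O E :=
  le_antisymm (fun _ hz => hk _ (kappa_isIntegral hE hF hz)) (kappa_mono hF.1)

theorem finiteDimensional_kappa {E F : Subfield Ω} (hE : Cpl O E) (hF : Fin E F) :
    FiniteDimensional (kappa O E) (Subfield.extendScalars (kappa_mono (O := O) hF.1)) := by
  classical
  letI : Algebra (R O E) (R O F) := (((Subfield.inclusion hF.1).comp (R O E).subtype).codRestrict (R O F)
    fun x => x.2).toAlgebra
  haveI hfin : Module.Finite (R O E) (R O F) := (ext hE hF).2.2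
  obtain ⟨s, hs⟩ := hfin.fg_top
  let f : R O F → Subfield.extendScalars (kappa_mono (O := O) hF.1) := fun x =>
    ⟨residue O (EtRam.inclOfComap O F.subtype x), ⟨residue _ x, rfl⟩⟩
  refine ⟨⟨s.image f, eq_top_iff.mpr ?_⟩⟩
  rintro ⟨_, z, rfl⟩ -
  obtain ⟨x, rfl⟩ := residue_surjective z
  have hx : x ∈ Submodule.span (R O E) (s : Set (R O F)) := hs ▸ Submodule.mem_top
  change f x ∈ Submodule.span _ _
  induction hx using Submodule.span_induction with
  | mem y hy => exact Submodule.subset_span (Finset.mem_coe.mpr (Finset.mem_image_of_mem f hy))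
  | zero => convert zero_mem (Submodule.span (kappa O E) _); exact Subtype.ext (by simp [f])
  | add a b _ _ ha hb => convert add_mem ha hb; exact Subtype.ext (by simp [f])
  | smul c a _ ha =>
    let c' : kappa O E := ⟨residue O (EtRam.inclOfComap O E.subtype c), ⟨residue _ c, rfl⟩⟩
    have e : f (c • a) = c' • f a := by
      refine Subtype.ext ?_
      change residue O (EtRam.inclOfComap O F.subtype (c • a)) = residue O _ * residue O _
      rw [← map_mul]; rfl
    rw [e]
    exact Submodule.smul_mem _ _ ha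

/-- core of the residue field -/
def CoreLE (O : ValuationSubring Ω) (p : ℕ) (K L : Subfield Ω) : Prop :=
  ∀ z ∈ kappa O L, (∀ n : ℕ, ∃ y ∈ kappa O L, y ^ p ^ n = z) → z ∈ kappa O K

theorem coreLE_of_fin {p : ℕ} [Fact p.Prime] [CharP (ResidueField O) p] {K L F : Subfield Ω} (hL : Cpl O L)
    (hk : AlgClosedRes O K) (hcore : CoreLE O p K L) (hF : Fin L F) : CoreLE O p K F := by
  intro z hz hroot
  haveI := finiteDimensional_kappa hL hF
  haveI : CharP (kappa O L) p := (RingHom.charP_iff (kappa O L).subtype Subtype.val_injective p).2 inferInstance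
  let z' : Subfield.extendScalars (kappa_mono (O := O) hF.1) := ⟨z, hz⟩
  have hc := Core.exists_monic_core (k := kappa O L) p z' fun n => by
    obtain ⟨y, hy, hyn⟩ := hroot n
    exact ⟨⟨y, hy⟩, Subtype.ext hyn⟩
  have hmem : ∀ i, (((minpoly (kappa O L) z').coeff i : kappa O L) : ResidueField O) ∈ kappa O K := fun i =>
    hcore _ ((minpoly (kappa O L) z').coeff i).2 fun n => by
      obtain ⟨c, hc⟩ := hc i n
      exact ⟨c, c.2, congrArg Subtype.val hc⟩
  refine hk z ?_
  have hzL : IsIntegral (kappa O L) z' := IsIntegral.of_finite _ _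
  let q : Polynomial (ResidueField O) := (minpoly (kappa O L) z').map (kappa O L).subtype
  have hlift : q ∈ Polynomial.lifts (kappa O K).subtype := by
    rw [Polynomial.lifts_iff_coeff_lifts]
    intro i
    rw [Polynomial.coeff_map]
    exact ⟨⟨_, hmem i⟩, rfl⟩
  obtain ⟨g, hg, -, hgm⟩ := Polynomial.lifts_and_degree_eq_and_monic hlift ((minpoly.monic hzL).map _)
  refine ⟨g, hgm, ?_⟩
  rw [show algebraMap (kappa O K) (ResidueField O) = (kappa O K).subtype from rfl, ← Polynomial.eval_map, hg,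
    Polynomial.eval_map]
  have h1 := congrArg Subtype.val (minpoly.aeval (kappa O L) z')
  rw [ZeroMemClass.coe_zero, ← IntermediateField.coe_val, ← Polynomial.aeval_algHom_apply] at h1
  exact h1

theorem eq_of_dominates {K K₁ : Subfield Ω} (hK : Cpl O K) (hKK₁ : Fin K K₁) (V : ValuationSubring K₁)
    (hV : EtRam.Dominates (R O K) ((Subfield.inclusion hKK₁.1).comp (R O K).subtype) V) : V = R O K₁ := by
  haveI := hK.dvr
  haveI := (hK.of_fin hKK₁).dvr
  have hle : ∀ z : K₁, z ∈ R O K₁ → z ∈ V := fun z hz => by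
    letI : Algebra (R O K) K₁ := ((Subfield.inclusion hKK₁.1).comp (R O K).subtype).toAlgebra
    haveI : IsScalarTower (R O K) K₁ Ω := IsScalarTower.of_algebraMap_eq fun _ => rfl
    exact ValTower.mem_of_isIntegral V hV.1 ((isIntegral_algebraMap_iff (B := Ω)
      (FaithfulSMul.algebraMap_injective K₁ Ω)).mp (isIntegral_of_mem hK hKK₁ z.2 hz))
  refine le_antisymm (fun x hx => ?_) hle
  by_contra hxO
  have hx0 : x ≠ 0 := fun h => hxO (h ▸ zero_mem _)
  have hxi : x⁻¹ ∈ R O K₁ := ((R O K₁).mem_or_inv_mem x).resolve_left hxO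
  obtain ⟨ϖ, hϖ⟩ := IsDiscreteValuationRing.exists_irreducible (R O K₁)
  have hy0 : (⟨x⁻¹, hxi⟩ : R O K₁) ≠ 0 := fun h => inv_ne_zero hx0 (congrArg Subtype.val h)
  obtain ⟨m, u, hm⟩ := IsDiscreteValuationRing.eq_unit_mul_pow_irreducible hy0 hϖ
  obtain ⟨π, hπ⟩ := IsDiscreteValuationRing.exists_irreducible (R O K)
  let π' : R O K₁ := ⟨Subfield.inclusion hKK₁.1 π, π.2⟩
  have hπ0 : π' ≠ 0 := fun h => hπ.ne_zero (Subtype.ext ((Subfield.inclusion hKK₁.1).injective
    ((congrArg Subtype.val h).trans (map_zero (Subfield.inclusion hKK₁.1)).symm)))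
  obtain ⟨e, w, he⟩ := IsDiscreteValuationRing.eq_unit_mul_pow_irreducible hπ0 hϖ
  have hm0 : m ≠ 0 := fun h => hxO (by
    subst h
    rw [pow_zero, mul_one] at hm
    have h1 := congrArg Subtype.val u.mul_inv
    rw [MulMemClass.coe_mul, ← congrArg Subtype.val hm] at h1
    have h2 := eq_inv_of_mul_eq_one_right (h1 : x⁻¹ * _ = 1)
    rw [inv_inv] at h2
    exact h2 ▸ (↑u⁻¹ : R O K₁).2)
  have hϖV : V.valuation (ϖ : K₁) = 1 := by
    refine le_antisymm ((V.valuation_le_one_iff _).2 (hle _ ϖ.2)) (not_lt.1 fun h => ?_)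
    have h1 : V.valuation x⁻¹ < 1 := by
      have h2 : x⁻¹ = ((u : R O K₁) : K₁) * (ϖ : K₁) ^ m := congrArg Subtype.val hm
      rw [h2, map_mul, map_pow]
      exact (mul_le_of_le_one_left' ((V.valuation_le_one_iff _).2 (hle _ (u : R O K₁).2))).trans_lt (pow_lt_one₀ zero_le h hm0)
    have h3 : V.valuation x * V.valuation x⁻¹ = 1 := by rw [← map_mul, mul_inv_cancel₀ hx0, map_one]
    exact absurd h3 (ne_of_lt ((mul_le_of_le_one_left' ((V.valuation_le_one_iff _).2 hx)).trans_lt h1))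
  have hw : V.valuation ((w : R O K₁) : K₁) = 1 := by
    refine le_antisymm ((V.valuation_le_one_iff _).2 (hle _ (w : R O K₁).2)) ?_
    have h3 := congrArg (fun z : R O K₁ => V.valuation (z : K₁)) w.mul_inv
    simp only [MulMemClass.coe_mul, OneMemClass.coe_one, map_mul, map_one] at h3
    calc (1 : V.ValueGroup) = _ := h3.symm
      _ ≤ _ := mul_le_of_le_one_right' ((V.valuation_le_one_iff _).2 (hle _ (↑w⁻¹ : R O K₁).2))
  have h4 := hV.2 π hπ.not_isUnit
  have h5 : (Subfield.inclusion hKK₁.1).comp (R O K).subtype π = ((w : R O K₁) : K₁) * (ϖ : K₁) ^ e :=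
    congrArg Subtype.val he
  rw [h5, map_mul, map_pow, hw, hϖV, one_pow, one_mul] at h4
  exact lt_irrefl _ h4

/-- finite base change of a weakly unramified extension over an algebraically closed residue field -/
theorem baseChange {K L K₁ : Subfield Ω} (hK : Cpl O K) (hL : Cpl O L) (hKL : K ≤ L) (hw : WU O K L)
    (hk : AlgClosedRes O K) (hK₁ : Fin K K₁) :
    WU O K₁ (L ⊔ K₁) ∧ kappa O (L ⊔ K₁) = kappa O L ∧ AlgClosedRes O K₁ ∧ kappa O K₁ = kappa O K := by
  classical
  haveI := hK.dvr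
  haveI := hL.dvr
  have hkap := kappa_eq_of_algClosed hK hk hK₁
  have hM : Fin L (L ⊔ K₁) := by rw [sup_comm]; exact hK₁.sup hKL
  let M : Subfield Ω := L ⊔ K₁
  letI : Algebra K L := (Subfield.inclusion hKL).toAlgebra
  letI : Algebra K K₁ := (Subfield.inclusion hK₁.1).toAlgebra
  letI : Algebra L M := (Subfield.inclusion (le_sup_left : L ≤ M)).toAlgebra
  letI : Algebra K₁ M := (Subfield.inclusion (le_sup_right : K₁ ≤ M)).toAlgebra
  letI : Algebra K M := (Subfield.inclusion (hKL.trans (le_sup_left : L ≤ M))).toAlgebra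
  haveI : IsScalarTower K L M := IsScalarTower.of_algebraMap_eq fun _ => rfl
  haveI : IsScalarTower K K₁ M := IsScalarTower.of_algebraMap_eq fun _ => rfl
  haveI : IsScalarTower L M Ω := IsScalarTower.of_algebraMap_eq fun _ => rfl
  haveI : FiniteDimensional K K₁ := hK₁.finiteDimensional
  letI : Algebra (R O K) (R O L) := (((Subfield.inclusion hKL).comp (R O K).subtype).codRestrict (R O L)
    fun x => x.2).toAlgebra
  haveI : IsLocalHom (algebraMap (R O K) (R O L)) := ⟨fun a ha => by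
    have := ha.map (EtRam.inclOfComap O L.subtype)
    exact isUnit_of_map_unit (EtRam.inclOfComap O K.subtype) a this⟩
  letI : Algebra (R O K) L := ((Subfield.inclusion hKL).comp (R O K).subtype).toAlgebra
  haveI : IsScalarTower (R O K) K L := IsScalarTower.of_algebraMap_eq fun _ => rfl
  haveI : IsScalarTower (R O K) (R O L) L := IsScalarTower.of_algebraMap_eq fun _ => rfl
  have hwAB : EtRam.IsWeaklyUnramified (R O K) (R O L) := by
    refine le_antisymm ?_ fun y hy => ?_
    · rw [Ideal.map_le_iff_le_comap]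
      exact fun a ha hu => ha (isUnit_of_map_unit (algebraMap (R O K) (R O L)) a hu)
    · obtain ⟨π, hπK, hπ0, hπ1, hmax, -⟩ := exists_unif hK
      obtain ⟨x, hx, hle, hlt⟩ := hw _ (y : L).2 ((val_lt_one_iff y).1 hy)
      have hdiv : O.valuation (((y : L) : Ω) / π) ≤ 1 := by
        rw [map_div₀, div_le_one₀ (zero_lt_iff.2 ((Valuation.ne_zero_iff _).2 hπ0))]
        exact hle.trans (hmax x hx hlt)
      let πR : R O K := ⟨⟨π, hπK⟩, (O.valuation_le_one_iff _).1 hπ1.le⟩
      let c : R O L := ⟨⟨((y : L) : Ω) / π, div_mem (y : L).2 (hKL hπK)⟩, (O.valuation_le_one_iff _).1 hdiv⟩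
      have e : y = algebraMap (R O K) (R O L) πR * c :=
        Subtype.ext (Subtype.ext (mul_div_cancel₀ _ hπ0).symm)
      rw [e]
      exact Ideal.mul_mem_right _ _ (Ideal.mem_map_of_mem _ ((val_lt_one_iff πR).2 hπ1))
  have hgen : Algebra.adjoin L (Set.range (algebraMap K₁ M)) = ⊤ := by
    refine Algebra.eq_top_iff.mpr fun z => ?_
    have halg : ∀ x ∈ (K₁ : Set Ω), IsAlgebraic L x := fun x hx =>
      (isIntegral_of_le hKL (hK₁.isIntegral hx)).isAlgebraic
    have hz : (z : Ω) ∈ Algebra.adjoin L (K₁ : Set Ω) := by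
      rw [← IntermediateField.adjoin_toSubalgebra_of_isAlgebraic halg]
      have hle : M ≤ (IntermediateField.adjoin L (K₁ : Set Ω)).toSubfield :=
        sup_le (le_adjoin L _) fun x hx => IntermediateField.subset_adjoin _ _ hx
      exact hle z.2
    have e : (K₁ : Set Ω) = (IsScalarTower.toAlgHom L M Ω) '' Set.range (algebraMap K₁ M) := by
      rw [← Set.range_comp]
      exact Subtype.range_val.symm
    rw [e, Algebra.adjoin_image] at hz
    obtain ⟨y, hy, hyz⟩ := hz
    exact (Subtype.ext hyz : y = z) ▸ hy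
  have hW : EtRam.Dominates (R O L) ((algebraMap L M).comp (algebraMap (R O L) L)) (R O M) := by
    refine ⟨fun a => a.2, fun a ha => ?_⟩
    refine ((R O M).valuation_lt_one_iff ⟨_, a.2⟩).1 ((val_lt_one_iff _).2 ?_)
    exact (val_lt_one_iff a).1 ha
  have hdom₁ : EtRam.Dominates (R O K) ((algebraMap K K₁).comp (algebraMap (R O K) K)) (R O K₁) := by
    refine ⟨fun a => a.2, fun a ha => ?_⟩
    refine ((R O K₁).valuation_lt_one_iff ⟨_, a.2⟩).1 ((val_lt_one_iff _).2 ?_)
    exact (val_lt_one_iff a).1 ha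
  have hTR : EtRam.IsTotallyRamified (R O K) ((algebraMap K K₁).comp (algebraMap (R O K) K)) := by
    refine ⟨⟨_, hdom₁⟩, fun V V' hV hV' =>
      (eq_of_dominates hK hK₁ V hV).trans (eq_of_dominates hK hK₁ V' hV').symm, fun V hV => ?_⟩
    obtain rfl := eq_of_dominates hK hK₁ V hV
    intro z
    obtain ⟨z, rfl⟩ := residue_surjective z
    have : residue O (EtRam.inclOfComap O K₁.subtype z) ∈ kappa O K := hkap ▸ ⟨residue _ z, rfl⟩
    obtain ⟨a, ha, hza⟩ := mem_kappa.mp this
    refine ⟨⟨⟨a, ha⟩, a.2⟩, ?_⟩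
    refine (ResidueField.map (EtRam.inclOfComap O K₁.subtype)).injective ?_
    exact hza
  obtain ⟨h1, -, h3⟩ := Solution.main' (R O K) (R O L) K L K₁ M hwAB hgen (R O M) hW (Or.inr hTR)
  refine ⟨fun y hy hv => ?_, le_antisymm (fun z hz => ?_) (kappa_mono le_sup_left), fun z hz => ?_, hkap⟩
  · haveI : IsDiscreteValuationRing (R O K₁) := (hK.of_fin hK₁).dvr
    obtain ⟨π, hπ⟩ := IsDiscreteValuationRing.exists_irreducible (R O K₁)
    let y' : R O M := ⟨⟨y, hy⟩, (O.valuation_le_one_iff _).1 hv.le⟩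
    have hy' : y' ∈ maximalIdeal (R O M) := (val_lt_one_iff y').2 hv
    rw [← h1] at hy'
    change y' ∈ Ideal.map (EtRam.inclOfComap (R O M) (algebraMap K₁ M)) (maximalIdeal (R O K₁)) at hy'
    rw [hπ.maximalIdeal_eq, Ideal.map_span, Set.image_singleton, Ideal.mem_span_singleton] at hy'
    obtain ⟨c, hc⟩ := hy'
    refine ⟨((π : K₁) : Ω), (π : K₁).2, ?_, (val_lt_one_iff π).1 hπ.not_isUnit⟩
    have h2 : y = ((π : K₁) : Ω) * ((c : M) : Ω) := congrArg (fun w : R O M => ((w : M) : Ω)) hc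
    rw [h2, map_mul]
    exact mul_le_of_le_one_right' ((O.valuation_le_one_iff _).2 c.2)
  · obtain ⟨w, rfl⟩ := hz
    obtain ⟨b, rfl⟩ := h3 hTR w
    exact ⟨residue _ b, rfl⟩
  · obtain ⟨g, hg, hgz⟩ := hz
    rw [hkap]
    refine hk z ?_
    refine ⟨g.map ((kappa O K₁).subtype.codRestrict (kappa O K) fun x => hkap ▸ x.2), hg.map _, ?_⟩
    rw [Polynomial.eval₂_map]
    exact hgz

end Groth.Agent.EtRamLib.Epp
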