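import Groth.Agent.EtRamLib.Epp.Tower
import Groth.Agent.EtRamLib.AS.Gen

/-!
# Chains of steps of degree `p` after a tame extension
-/

set_option autoImplicit false
universe u

open IsLocalRing Polynomial

namespace Groth.Agent.EtRamLib.Epp

theorem exists_normal_step {F S : Type u} [Field F] [Field S] [Algebra F S] [FiniteDimensional F S] [IsGalois F S]
    (p : ℕ) [hp : Fact p.Prime] (n : ℕ) (h : Module.finrank F S = p ^ (n + 1)) :
    ∃ E : IntermediateField F S, IsGalois F E ∧ Module.finrank F E = p ∧ Module.finrank E S = p ^ n := by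
  have hcard : Nat.card Gal(S/F) = p ^ (n + 1) := by rw [IsGalois.card_aut_eq_finrank, h]
  obtain ⟨H, hH⟩ := Sylow.exists_subgroup_card_pow_prime (G := Gal(S/F)) p (n := n)
    (hcard ▸ pow_dvd_pow p n.le_succ)
  have hidx : H.index = p := by
    have h1 := H.card_mul_index
    rw [hH, hcard, pow_succ] at h1
    exact mul_left_cancel₀ (pow_ne_zero n hp.out.ne_zero) h1
  haveI : H.Normal := Subgroup.normal_of_index_eq_minFac_card (by
    rw [hidx, hcard, Nat.pow_minFac (by omega : n + 1 ≠ 0), hp.out.minFac_eq])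
  have h2 : Module.finrank (IntermediateField.fixedField H) S = p ^ n := by
    rw [IntermediateField.finrank_fixedField_eq_card, hH]
  refine ⟨IntermediateField.fixedField H, IsGalois.of_fixedField_normal_subgroup H, ?_, h2⟩
  have h3 := Module.finrank_mul_finrank F (IntermediateField.fixedField H) S
  rw [h2, h, pow_succ, mul_comm] at h3
  exact mul_left_cancel₀ (pow_ne_zero n hp.out.ne_zero) h3

/-- generators of cyclic extensions of degree `p` -/
theorem exists_step_generator {F E : Type u} [Field F] [Field E] [Algebra F E] [IsGalois F E]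
    (p : ℕ) [hp : Fact p.Prime] (h : Module.finrank F E = p)
    (hF : CharP F p ∨ (primitiveRoots p F).Nonempty) :
    ∃ z : E, IntermediateField.adjoin F ({z} : Set E) = ⊤ ∧
      (z ^ p ∈ Set.range (algebraMap F E) ∨ (CharP F p ∧ z ^ p - z ∈ Set.range (algebraMap F E))) := by
  haveI : FiniteDimensional F E := Module.finite_of_finrank_pos (h ▸ hp.out.pos)
  rcases hF with hF | hF
  · obtain ⟨z, ξ, hz, hgen⟩ := AS.Gen.exists_generator (L := F) (M := E) p h
    exact ⟨z, hgen, Or.inr ⟨hF, ξ, hz.symm⟩⟩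
  · haveI : IsCyclic Gal(E/F) := isCyclic_of_prime_card (p := p) (by rw [IsGalois.card_aut_eq_finrank, h])
    obtain ⟨α, hα, hgen⟩ := exists_root_adjoin_eq_top_of_isCyclic F E (by rw [h]; exact hF)
    exact ⟨α, hgen, Or.inl (h ▸ hα)⟩

variable {Ω : Type u} [Field Ω]

theorem chain_pGroup {p : ℕ} [hp : Fact p.Prime] (n : ℕ) :
    ∀ (F : Subfield Ω) (S : IntermediateField F Ω) [IsGalois F S],
      Module.finrank F S = p ^ n → (CharP Ω p ∨ ∃ ζ ∈ F, IsPrimitiveRoot ζ p) →
      Relation.ReflTransGen (Step (Ω := Ω) p) F S.toSubfield := by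
  induction n with
  | zero =>
    intro F S _ h _
    rw [pow_zero, IntermediateField.finrank_eq_one_iff] at h
    subst h
    have e : (⊥ : IntermediateField F Ω).toSubfield = F := by
      refine SetLike.ext fun x => ⟨fun hx => ?_, fun hx => IntermediateField.algebraMap_mem (⊥ : IntermediateField F Ω) (⟨x, hx⟩ : F)⟩
      obtain ⟨y, rfl⟩ := IntermediateField.mem_bot.mp hx
      exact y.2
    rw [e]
  | succ n ih =>
    intro F S _ h hF
    haveI : FiniteDimensional F S := Module.finite_of_finrank_pos (h ▸ pow_pos hp.out.pos _)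
    obtain ⟨E, hE, hEp, hEn⟩ := exists_normal_step p n h
    have hF' : CharP F p ∨ (primitiveRoots p F).Nonempty := hF.imp
      (fun h => (RingHom.charP_iff F.subtype Subtype.val_injective p).2 h) fun ⟨ζ, hζ, hprim⟩ =>
      Finset.nonempty_def.mpr ⟨(⟨ζ, hζ⟩ : F), (mem_primitiveRoots hp.out.pos).2 (IsPrimitiveRoot.of_map_of_injective (f := F.subtype) hprim Subtype.val_injective)⟩
    haveI := hE
    obtain ⟨z, hz, hzp⟩ := exists_step_generator p hEp hF'
    let a : Ω := ((z : S) : Ω)
    have hadj : adj F a = (E.map S.val).toSubfield := by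
      have h1 : (IntermediateField.adjoin F ({z} : Set E)).map E.val = E := by
        rw [hz, ← AlgHom.fieldRange_eq_map, IntermediateField.fieldRange_val]
      rw [adj, ← h1, IntermediateField.map_map, IntermediateField.adjoin_map, Set.image_singleton]
      rfl
    have hle : adj F a ≤ S.toSubfield := by
      rw [hadj]
      rintro _ ⟨x, -, rfl⟩
      exact x.2
    have hmem : ∀ x : S, x ∈ E ↔ (x : Ω) ∈ adj F a := fun x => by
      rw [hadj]
      exact ⟨fun hx => ⟨x, hx, rfl⟩, fun ⟨y, hy, hyx⟩ => (Subtype.ext hyx : y = x) ▸ hy⟩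
    let S₁ : IntermediateField (adj F a) Ω := Subfield.extendScalars hle
    let f : E ≃+* adj F a :=
      { toFun := fun x => ⟨((x : S) : Ω), (hmem _).1 x.2⟩
        invFun := fun x => ⟨⟨(x : Ω), hle x.2⟩, (hmem _).2 x.2⟩
        left_inv := fun _ => rfl
        right_inv := fun _ => rfl
        map_mul' := fun _ _ => rfl
        map_add' := fun _ _ => rfl }
    let g : S ≃+* S₁ :=
      { toFun := fun x => ⟨(x : Ω), x.2⟩
        invFun := fun x => ⟨(x : Ω), x.2⟩
        left_inv := fun _ => rfl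
        right_inv := fun _ => rfl
        map_mul' := fun _ _ => rfl
        map_add' := fun _ _ => rfl }
    have hcomp : (algebraMap (adj F a) S₁).comp f.toRingHom = g.toRingHom.comp (algebraMap E S) :=
      RingHom.ext fun _ => rfl
    haveI : IsGalois (adj F a) S₁ := IsGalois.of_equiv_equiv (f := f) (g := g) hcomp
    have h₁ : Module.finrank (adj F a) S₁ = p ^ n :=
      (Algebra.finrank_eq_of_equiv_equiv f g hcomp).symm.trans hEn
    have hF₁ : CharP Ω p ∨ ∃ ζ ∈ adj F a, IsPrimitiveRoot ζ p :=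
      hF.imp id fun ⟨ζ, hζ, h⟩ => ⟨ζ, le_adj F a hζ, h⟩
    refine Relation.ReflTransGen.head ⟨a, rfl, ?_⟩ (ih (adj F a) S₁ h₁ hF₁)
    rcases hzp with ⟨c, hc⟩ | ⟨hchar, c, hc⟩
    · have h2 : (c : Ω) = a ^ p := congrArg (fun w : E => ((w : S) : Ω)) hc
      exact Or.inl (h2 ▸ c.2)
    · have h2 : (c : Ω) = a ^ p - a := congrArg (fun w : E => ((w : S) : Ω)) hc
      exact Or.inr ⟨(RingHom.charP_iff F.subtype Subtype.val_injective p).1 hchar, h2 ▸ c.2⟩

theorem chain_pow {p : ℕ} (k : ℕ) : ∀ (F : Subfield Ω) (a : Ω), a ^ p ^ k ∈ F →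
    ∃ F', Relation.ReflTransGen (Step (Ω := Ω) p) F F' ∧ F ≤ F' ∧ a ∈ F' := by
  induction k with
  | zero => intro F a ha; exact ⟨F, .refl, le_rfl, by rwa [pow_zero, pow_one] at ha⟩
  | succ k ih =>
    intro F a ha
    obtain ⟨F', hc, hle, hmem⟩ := ih (adj F (a ^ p ^ k)) a (mem_adj _ _)
    exact ⟨F', .head ⟨_, rfl, Or.inl (by rwa [← pow_mul, ← pow_succ])⟩ hc, (le_adj _ _).trans hle, hmem⟩

theorem chain_finset {p : ℕ} (s : Finset Ω) : ∀ (F : Subfield Ω), (∀ a ∈ s, ∃ k, a ^ p ^ k ∈ F) →
    ∃ F', Relation.ReflTransGen (Step (Ω := Ω) p) F F' ∧ F ≤ F' ∧ (s : Set Ω) ⊆ F' := by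
  classical
  induction s using Finset.induction with
  | empty => intro F _; exact ⟨F, .refl, le_rfl, by simp⟩
  | @insert b s _ ih =>
    intro F h
    obtain ⟨k, hk⟩ := h b (Finset.mem_insert_self b s)
    obtain ⟨F₁, hc₁, hle₁, hb⟩ := chain_pow k F b hk
    obtain ⟨F', hc, hle, hs⟩ := ih F₁ fun a ha =>
      (h a (Finset.mem_insert_of_mem ha)).imp fun k hk => hle₁ hk
    refine ⟨F', hc₁.trans hc, hle₁.trans hle, ?_⟩
    rw [Finset.coe_insert]
    exact Set.insert_subset (hle hb) hs

theorem adj_set_le {L N : Subfield Ω} {s : Set Ω} (h : L ≤ N) (hs : s ⊆ N) :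
    (IntermediateField.adjoin L s).toSubfield ≤ N := by
  rw [IntermediateField.adjoin_toSubfield, Subfield.closure_le]
  rintro y (⟨⟨y, hy⟩, rfl⟩ | hy)
  · exact h hy
  · exact hs hy

/-- every finite extension lies in a chain of steps over a tame extension -/
theorem exists_tame_chain [IsAlgClosed Ω] {p : ℕ} [hp : Fact p.Prime] {L M : Subfield Ω} (hM : Fin L M)
    (hchar : CharP Ω p ∨ (CharZero Ω ∧ ∃ ζ ∈ L, IsPrimitiveRoot ζ p)) :
    ∃ (L' N : Subfield Ω) (hL' : Fin L L'), ¬ p ∣ Module.finrank L (Subfield.extendScalars hL'.1) ∧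
      Relation.ReflTransGen (Step (Ω := Ω) p) L' N ∧ M ≤ N := by
  classical
  obtain ⟨t, ht, hMt⟩ := hM.2
  let P₀ : L[X] := ∏ x ∈ t, minpoly L x
  let Nr : IntermediateField L Ω := IntermediateField.adjoin L (P₀.rootSet Ω)
  haveI hsf : P₀.IsSplittingField L Nr :=
    IntermediateField.adjoin_rootSet_isSplittingField (IsAlgClosed.splits _)
  haveI : FiniteDimensional L Nr := Polynomial.IsSplittingField.finiteDimensional Nr P₀
  haveI : Normal L Nr := Normal.of_isSplittingField P₀
  have hMNr : M ≤ Nr.toSubfield := hMt.trans fun x hx => by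
    refine (IntermediateField.adjoin_le_iff.mpr ?_) hx
    intro y hy
    refine IntermediateField.subset_adjoin L _ ((Polynomial.mem_rootSet).mpr ⟨?_, ?_⟩)
    · exact Finset.prod_ne_zero_iff.mpr fun z hz => minpoly.ne_zero (ht z hz)
    · rw [map_prod, Finset.prod_eq_zero_iff]
      exact ⟨y, hy, minpoly.aeval L y⟩
  let S := separableClosure L Nr
  haveI : IsGalois L S := separableClosure.isGalois L Nr
  obtain ⟨P⟩ : Nonempty (Sylow p Gal(S/L)) := inferInstance
  let E : IntermediateField L S := IntermediateField.fixedField (P : Subgroup Gal(S/L))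
  obtain ⟨n, hn⟩ := P.isPGroup'.exists_card_eq
  have hES : Module.finrank E S = p ^ n := by
    rw [IntermediateField.finrank_fixedField_eq_card, hn]
  have hLE : Module.finrank L E = (P : Subgroup Gal(S/L)).index := by
    have h1 := Module.finrank_mul_finrank L E S
    rw [hES, ← IsGalois.card_aut_eq_finrank L S, ← (P : Subgroup Gal(S/L)).card_mul_index, hn, mul_comm] at h1
    exact mul_left_cancel₀ (pow_ne_zero n hp.out.ne_zero) h1
  let S0 : IntermediateField L Ω := IntermediateField.map Nr.val S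
  let E0 : IntermediateField L Ω := IntermediateField.map (Nr.val.comp S.val) E
  haveI : FiniteDimensional L E0 := (IntermediateField.equivMap E (Nr.val.comp S.val)).toLinearEquiv.finiteDimensional
  haveI : FiniteDimensional L S0 := (IntermediateField.equivMap S Nr.val).toLinearEquiv.finiteDimensional
  let L' : Subfield Ω := E0.toSubfield
  have hL' : Fin L L' := Fin.of_finiteDimensional E0
  have hle : L' ≤ S0.toSubfield := by
    rintro _ ⟨x, -, rfl⟩
    exact ⟨(x : Nr), x.2, rfl⟩
  have hdeg : Module.finrank L (Subfield.extendScalars hL'.1) = Module.finrank L E :=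
    ((IntermediateField.equivMap E (Nr.val.comp S.val)).toLinearEquiv.finrank_eq).symm
  let S' : IntermediateField L' Ω := Subfield.extendScalars hle
  let eS := IntermediateField.equivMap S Nr.val
  let eE := IntermediateField.equivMap E (Nr.val.comp S.val)
  let g : S ≃+* S' :=
    { toFun := fun x => ⟨((x : Nr) : Ω), ⟨(x : Nr), x.2, rfl⟩⟩
      invFun := fun x => eS.symm ⟨(x : Ω), x.2⟩
      left_inv := fun x => eS.symm_apply_apply x
      right_inv := fun x => Subtype.ext (congrArg Subtype.val (eS.apply_symm_apply ⟨(x : Ω), x.2⟩))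
      map_mul' := fun _ _ => rfl
      map_add' := fun _ _ => rfl }
  have hcomp : (algebraMap L' S').comp eE.toRingEquiv.toRingHom = g.toRingHom.comp (algebraMap E S) :=
    RingHom.ext fun _ => rfl
  haveI : IsGalois L' S' := IsGalois.of_equiv_equiv (f := eE.toRingEquiv) (g := g) hcomp
  have h' : Module.finrank L' S' = p ^ n := (Algebra.finrank_eq_of_equiv_equiv eE.toRingEquiv g hcomp).symm.trans hES
  have hchar' : CharP Ω p ∨ ∃ ζ ∈ L', IsPrimitiveRoot ζ p :=
    hchar.imp id fun ⟨_, ζ, hζ, h⟩ => ⟨ζ, hL'.1 hζ, h⟩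
  have hchain := chain_pGroup n L' S' h' hchar'
  -- the purely inseparable part
  obtain ⟨s, hsub, hMs⟩ : ∃ s : Finset Ω, (∀ x ∈ s, x ∈ Nr.toSubfield) ∧
      Nr.toSubfield ≤ (IntermediateField.adjoin L (s : Set Ω)).toSubfield := by
    refine ⟨(P₀.rootSet Ω).toFinset, fun x hx => ?_, ?_⟩
    · exact IntermediateField.subset_adjoin L _ (Set.mem_toFinset.mp hx)
    · rw [Set.coe_toFinset]
  have hNr : ∀ x ∈ s, x ∈ Nr.toSubfield → ∃ k, x ^ p ^ k ∈ S0.toSubfield := by
    intro x _ hx
    rcases hchar with hc | ⟨hc, -⟩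
    · haveI : CharP L p := (RingHom.charP_iff L.subtype Subtype.val_injective p).2 hc
      haveI : ExpChar L p := ExpChar.prime hp.out
      haveI : ExpChar S p := expChar_of_injective_ringHom (algebraMap L S).injective p
      obtain ⟨k, w, hw⟩ := (isPurelyInseparable_iff_pow_mem S p).mp inferInstance (⟨x, hx⟩ : Nr)
      exact ⟨k, (w : Nr), w.2, congrArg Subtype.val hw⟩
    · haveI : CharZero L := ⟨fun i j h => Nat.cast_injective (R := Ω) (by simpa using congrArg L.subtype h)⟩
      haveI : Algebra.IsSeparable L Nr := inferInstance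
      refine ⟨0, ⟨x, hx⟩, ?_, by rw [pow_zero, pow_one]; rfl⟩
      exact mem_separableClosure_iff.mpr (Algebra.IsSeparable.isSeparable L _)
  have e1 : S'.toSubfield = S0.toSubfield := Subfield.extendScalars_toSubfield hle
  rw [e1] at hchain
  obtain ⟨N, hc, hle', hsN⟩ := chain_finset s S0.toSubfield fun x hx => hNr x hx (by
    exact hsub x hx)
  refine ⟨L', N, hL', ?_, hchain.trans hc, hMNr.trans (hMs.trans ?_)⟩
  · rw [hdeg, hLE]; exact P.not_dvd_index
  · intro x hx
    have hLN : L ≤ N := (hL'.1.trans hle).trans hle'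
    exact adj_set_le hLN hsN hx

end Groth.Agent.EtRamLib.Epp
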