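import Groth.Agent.EtRamLib.Solution
import Groth.Agent.Adic.CV.DimOne
import Groth.Agent.Nagata.CompleteLocal
import Groth.Agent.Props.N2Local
import Groth.Agent.CohenFact61.Main

/-!
# Complete discretely valued subfields of a valued field
-/

set_option autoImplicit false
universe u

open IsLocalRing

namespace Groth.Agent.EtRamLib.Epp

variable {Ω : Type u} [Field Ω] (O : ValuationSubring Ω)

/-- the valuation ring of a subfield -/
abbrev R (E : Subfield Ω) : ValuationSubring E := O.comap E.subtype

/-- the subfield is complete and discretely valued -/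
structure Cpl (E : Subfield Ω) : Prop where
  dvr : IsDiscreteValuationRing (R O E)
  complete : IsAdicComplete (maximalIdeal (R O E)) (R O E)

/-- a finite extension of subfields -/
def Fin (E F : Subfield Ω) : Prop :=
  E ≤ F ∧ ∃ s : Finset Ω, (∀ x ∈ s, IsIntegral E x) ∧
    F ≤ (IntermediateField.adjoin E (s : Set Ω)).toSubfield

/-- weakly unramified extension of subfields -/
def WU (E F : Subfield Ω) : Prop :=
  ∀ y ∈ F, O.valuation y < 1 → ∃ x ∈ E, O.valuation y ≤ O.valuation x ∧ O.valuation x < 1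

/-- the residue field of a subfield -/
noncomputable def kappa (E : Subfield Ω) : Subfield (ResidueField O) :=
  (ResidueField.map (EtRam.inclOfComap O E.subtype)).fieldRange

variable {O}

theorem mem_kappa {E : Subfield Ω} {z : ResidueField O} :
    z ∈ kappa O E ↔ ∃ x : O, (x : Ω) ∈ E ∧ residue O x = z := by
  constructor
  · rintro ⟨w, rfl⟩
    obtain ⟨w, rfl⟩ := residue_surjective w
    exact ⟨EtRam.inclOfComap O E.subtype w, (w : E).2, rfl⟩
  · rintro ⟨x, hx, rfl⟩
    exact ⟨residue _ (⟨⟨(x : Ω), hx⟩, x.2⟩ : R O E), rfl⟩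

theorem kappa_mono {E F : Subfield Ω} (h : E ≤ F) : kappa O E ≤ kappa O F := fun z hz => by
  obtain ⟨x, hx, rfl⟩ := mem_kappa.mp hz
  exact mem_kappa.mpr ⟨x, h hx, rfl⟩

theorem WU.trans {E F G : Subfield Ω} (h₁ : WU O E F) (h₂ : WU O F G) : WU O E G := fun y hy hv => by
  obtain ⟨x, hx, hle, hlt⟩ := h₂ y hy hv
  obtain ⟨x', hx', hle', hlt'⟩ := h₁ x hx hlt
  exact ⟨x', hx', hle.trans hle', hlt'⟩

theorem WU.mono {E F G : Subfield Ω} (h : WU O E G) (hFG : F ≤ G) : WU O E F := fun y hy => h y (hFG hy)

theorem WU.refl (E : Subfield Ω) : WU O E E := fun y hy hv => ⟨y, hy, le_rfl, hv⟩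

theorem isIntegral_of_le {E F : Subfield Ω} (h : E ≤ F) {x : Ω} (hx : IsIntegral E x) : IsIntegral F x := by
  letI : Algebra E F := (Subfield.inclusion h).toAlgebra
  haveI : IsScalarTower E F Ω := IsScalarTower.of_algebraMap_eq fun _ => rfl
  exact hx.tower_top

theorem adjoin_le_of_le {E F : Subfield Ω} (h : E ≤ F) (s : Set Ω) :
    (IntermediateField.adjoin E s).toSubfield ≤ (IntermediateField.adjoin F s).toSubfield := by
  rw [IntermediateField.adjoin_toSubfield, IntermediateField.adjoin_toSubfield]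
  refine Subfield.closure_mono (Set.union_subset_union_left _ ?_)
  rintro _ ⟨e, rfl⟩
  exact ⟨⟨_, h e.2⟩, rfl⟩

theorem le_adjoin (E : Subfield Ω) (s : Set Ω) : E ≤ (IntermediateField.adjoin E s).toSubfield :=
  fun x hx => (IntermediateField.adjoin E s).algebraMap_mem ⟨x, hx⟩

theorem Fin.refl (E : Subfield Ω) : Fin E E :=
  ⟨le_rfl, ∅, by simp, le_adjoin E _⟩

theorem Fin.of_adjoin (E : Subfield Ω) (s : Finset Ω) (hs : ∀ x ∈ s, IsIntegral E x) :
    Fin E (IntermediateField.adjoin E (s : Set Ω)).toSubfield := ⟨le_adjoin E _, s, hs, le_rfl⟩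

theorem Fin.of_le {E F G : Subfield Ω} (h : Fin E G) (h₁ : E ≤ F) (h₂ : F ≤ G) : Fin E F :=
  ⟨h₁, h.2.choose, h.2.choose_spec.1, h₂.trans h.2.choose_spec.2⟩

theorem Fin.isIntegral {E F : Subfield Ω} (h : Fin E F) {x : Ω} (hx : x ∈ F) : IsIntegral E x := by
  obtain ⟨s, hs, hle⟩ := h.2
  haveI := IntermediateField.finiteDimensional_adjoin (K := E) (L := Ω) (S := (s : Set Ω)) hs
  exact (IsIntegral.of_finite E (⟨x, hle hx⟩ : IntermediateField.adjoin E (s : Set Ω))).map
    (IntermediateField.val _)

theorem Fin.finiteDimensional {E F : Subfield Ω} (h : Fin E F) :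
    FiniteDimensional E (Subfield.extendScalars h.1) := by
  obtain ⟨s, hs, hle⟩ := h.2
  haveI := IntermediateField.finiteDimensional_adjoin (K := E) (L := Ω) (S := (s : Set Ω)) hs
  have h' : Subfield.extendScalars h.1 ≤ IntermediateField.adjoin E (s : Set Ω) := hle
  exact Module.Finite.of_injective (IntermediateField.inclusion h').toLinearMap
    (IntermediateField.inclusion h').toRingHom.injective

theorem Fin.of_finiteDimensional {E : Subfield Ω} (F : IntermediateField E Ω) [FiniteDimensional E F] :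
    Fin E F.toSubfield := by
  classical
  obtain ⟨s, hs⟩ := IntermediateField.fg_def.mp (IntermediateField.fg_of_fg_toSubalgebra F
    ((Subalgebra.fg_top _).mp (Algebra.FiniteType.out (R := E) (A := F.toSubalgebra))))
  refine ⟨fun x hx => F.algebraMap_mem ⟨x, hx⟩, hs.1.toFinset, fun x hx => ?_, ?_⟩
  · have hxF : x ∈ F := hs.2 ▸ IntermediateField.subset_adjoin _ _ (hs.1.mem_toFinset.mp hx)
    exact (IsIntegral.of_finite E (⟨x, hxF⟩ : F)).map F.val
  · rw [hs.1.coe_toFinset, hs.2]

theorem Fin.trans {E F G : Subfield Ω} (h₁ : Fin E F) (h₂ : Fin F G) : Fin E G := by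
  classical
  obtain ⟨t, ht, hG⟩ := h₂.2
  obtain ⟨s, hs, hF⟩ := h₁.2
  refine ⟨h₁.1.trans h₂.1, s ∪ t, fun x hx => ?_, hG.trans ?_⟩
  · rcases Finset.mem_union.mp hx with hx | hx
    · exact hs x hx
    · letI : Algebra E F := (Subfield.inclusion h₁.1).toAlgebra
      haveI : IsScalarTower E F Ω := IsScalarTower.of_algebraMap_eq fun _ => rfl
      haveI : Algebra.IsIntegral E F := ⟨fun y => (isIntegral_algebraMap_iff
        (FaithfulSMul.algebraMap_injective F Ω)).mp (h₁.isIntegral y.2)⟩
      exact isIntegral_trans x (ht x hx)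
  · rw [IntermediateField.adjoin_toSubfield, Subfield.closure_le]
    rintro y (⟨⟨y, hy⟩, rfl⟩ | hy)
    · exact IntermediateField.adjoin.mono _ _ _ (by simp) (hF hy)
    · exact IntermediateField.subset_adjoin _ _ (by simp [Finset.mem_coe.mp hy])

theorem Fin.sup {E F G : Subfield Ω} (h : Fin E F) (hEG : E ≤ G) : Fin G (F ⊔ G) := by
  obtain ⟨s, hs, hF⟩ := h.2
  exact ⟨le_sup_right, s, fun x hx => isIntegral_of_le hEG (hs x hx),
    sup_le (hF.trans (adjoin_le_of_le hEG _)) (le_adjoin G _)⟩

theorem Fin.union {E F G : Subfield Ω} (h₁ : Fin E F) (h₂ : Fin E G) : Fin E (F ⊔ G) :=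
  h₂.trans (h₁.sup h₂.1)

/-- Over a complete discretely valued field the valuation ring of a finite extension is the integral closure;
it is again complete and discretely valued, and finite. -/
theorem ext {E F : Subfield Ω} (hE : Cpl O E) (hF : Fin E F) :
    Cpl O F ∧ (∀ x ∈ F, x ∈ O → IsIntegral (R O E) x) ∧
      (letI : Algebra (R O E) (R O F) := (((Subfield.inclusion hF.1).comp (R O E).subtype).codRestrict (R O F)
        fun x => x.2).toAlgebra
       Module.Finite (R O E) (R O F)) := by
  classical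
  haveI := hE.dvr
  haveI := hE.complete
  obtain ⟨ϖ, hϖ⟩ := IsDiscreteValuationRing.exists_irreducible (R O E)
  haveI : IsAdicComplete (Ideal.span {ϖ}) (R O E) := by rw [← hϖ.maximalIdeal_eq]; infer_instance
  letI : Algebra E F := (Subfield.inclusion hF.1).toAlgebra
  haveI : IsScalarTower E F Ω := IsScalarTower.of_algebraMap_eq fun _ => rfl
  haveI : FiniteDimensional E F := hF.finiteDimensional
  letI : Algebra (R O E) F := ((Subfield.inclusion hF.1).comp (R O E).subtype).toAlgebra
  haveI : IsScalarTower (R O E) E F := IsScalarTower.of_algebraMap_eq fun _ => rfl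
  haveI : IsScalarTower (R O E) F Ω := IsScalarTower.of_algebraMap_eq fun _ => rfl
  have hinj : Function.Injective (algebraMap (R O E) F) :=
    (Subfield.inclusion hF.1).injective.comp Subtype.val_injective
  have hdom : EtRam.Dominates (R O E) (((algebraMap E F).comp (algebraMap (R O E) E))) (R O F) := by
    refine ⟨fun a => a.2, fun a ha => ?_⟩
    refine ((R O F).valuation_lt_one_iff ⟨_, a.2⟩).1 fun hu => ha ?_
    exact isUnit_of_map_unit (EtRam.inclOfComap O E.subtype) a (hu.map (EtRam.inclOfComap O F.subtype))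
  have hmem : ∀ x : F, x ∈ R O F → IsIntegral (R O E) x := by
    intro x hxO
    by_contra hx
    have halg : IsAlgebraic (R O E) x :=
      (IsFractionRing.isAlgebraic_iff (R O E) E F).mpr (IsIntegral.of_finite E x).isAlgebraic
    rcases Adic.CV.DimOne.isIntegral_or_isIntegral_inv hϖ.ne_zero hinj halg with h | h
    · exact hx h
    haveI := Adic.CV.DimOne.isLocalRing_integralClosure hϖ.ne_zero F F (AlgEquiv.refl (R := R O E))
    let y : integralClosure (R O E) F := ⟨x⁻¹, h⟩
    have hx0 : x ≠ 0 := fun h0 => hx (h0 ▸ isIntegral_zero)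
    have hy : y ∈ maximalIdeal (integralClosure (R O E) F) := by
      intro hu
      obtain ⟨w, hw⟩ := hu.exists_right_inv
      refine hx ?_
      have hw' : x⁻¹ * (w : F) = 1 := congrArg Subtype.val hw
      have : (w : F) = x := by
        calc (w : F) = x * (x⁻¹ * w) := by rw [← mul_assoc, mul_inv_cancel₀ hx0, one_mul]
          _ = x := by rw [hw', mul_one]
      exact this ▸ w.2
    have hle : ∀ z : integralClosure (R O E) F, (z : F) ∈ R O F := fun z =>
      ValTower.mem_of_isIntegral (R O F) (fun a => a.2) z.2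
    let ι : integralClosure (R O E) F →+* R O F :=
      (integralClosure (R O E) F).val.toRingHom.codRestrict (R O F) hle
    haveI hP : ((maximalIdeal (R O F)).comap ι).IsPrime := Ideal.comap_isPrime ι _
    have hPmax : ((maximalIdeal (R O F)).comap ι).IsMaximal := by
      refine Ideal.isMaximal_of_isIntegral_of_isMaximal_comap (R := R O E) _ ?_
      convert maximalIdeal.isMaximal (R O E)
      ext a
      rw [Ideal.mem_comap, Ideal.mem_comap]
      exact ⟨fun ha hu => ha (hu.map (ι.comp (algebraMap (R O E) (integralClosure (R O E) F)))),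
        fun ha hu => ha (isUnit_of_map_unit (EtRam.inclOfComap O E.subtype) a (hu.map (EtRam.inclOfComap O F.subtype)))⟩
    rw [← IsLocalRing.eq_maximalIdeal hPmax] at hy
    have h1 : (R O F).valuation x⁻¹ < 1 := ((R O F).valuation_lt_one_iff (ι y)).1 hy
    have h2 : (R O F).valuation x ≤ 1 := ((R O F).valuation_le_one_iff _).2 hxO
    have h3 : (R O F).valuation x * (R O F).valuation x⁻¹ = 1 := by
      rw [← map_mul, mul_inv_cancel₀ hx0, map_one]
    exact absurd h3 (ne_of_lt ((mul_le_of_le_one_left' h2).trans_lt h1))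
  have hN : CAlg.IsN2 (R O E) :=
    (Props.N2Local.isNagata_iff.mp (Nagata.CompleteLocal.isNagata (R O E))).2 (R O E) fun x => ⟨x, rfl⟩
  haveI := Props.N2Local.finite_integralClosure hN E F
  letI : Algebra (R O E) (R O F) := (((Subfield.inclusion hF.1).comp (R O E).subtype).codRestrict (R O F)
        fun x => x.2).toAlgebra
  let ι : integralClosure (R O E) F →ₐ[R O E] R O F :=
    { toRingHom := (integralClosure (R O E) F).val.toRingHom.codRestrict (R O F)
        fun z => ValTower.mem_of_isIntegral (R O F) (fun a => a.2) z.2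
      commutes' := fun _ => rfl }
  haveI hfin : Module.Finite (R O E) (R O F) :=
    Module.Finite.of_surjective ι.toLinearMap fun z => ⟨⟨z, hmem z z.2⟩, rfl⟩
  haveI hdvr : IsDiscreteValuationRing (R O F) := Solution.isDVR (R O E) E F (R O F) hdom
  refine ⟨⟨hdvr, CohenFact61.isAdicComplete_of_finite (R O E) (R O F)⟩, fun x hx hxO => ?_, hfin⟩
  exact (hmem ⟨x, hx⟩ hxO).map (IsScalarTower.toAlgHom (R O E) F Ω)

theorem Cpl.of_fin {E F : Subfield Ω} (hE : Cpl O E) (hF : Fin E F) : Cpl O F := (ext hE hF).1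

theorem isIntegral_of_mem {E F : Subfield Ω} (hE : Cpl O E) (hF : Fin E F) {x : Ω} (hx : x ∈ F) (hxO : x ∈ O) :
    IsIntegral (R O E) x := (ext hE hF).2.1 x hx hxO

end Groth.Agent.EtRamLib.Epp
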