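import Groth.Agent.EtRamLib.Epp.BaseChange

/-!
# Extensions generated by an element with a large residue
-/

set_option autoImplicit false
universe u

open IsLocalRing Polynomial

namespace Groth.Agent.EtRamLib.Epp

variable {Ω : Type u} [Field Ω] {O : ValuationSubring Ω}

/-- adjoining one element -/
abbrev adj (L : Subfield Ω) (θ : Ω) : Subfield Ω := (IntermediateField.adjoin L ({θ} : Set Ω)).toSubfield

theorem le_adj (L : Subfield Ω) (θ : Ω) : L ≤ adj L θ := le_adjoin L _

theorem mem_adj (L : Subfield Ω) (θ : Ω) : θ ∈ adj L θ := IntermediateField.mem_adjoin_simple_self L θ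

theorem adj_le {L F : Subfield Ω} {θ : Ω} (h : L ≤ F) (hθ : θ ∈ F) : adj L θ ≤ F := by
  rw [adj, IntermediateField.adjoin_toSubfield, Subfield.closure_le]
  rintro y (⟨⟨y, hy⟩, rfl⟩ | hy)
  · exact h hy
  · rw [Set.mem_singleton_iff.mp hy]; exact hθ

theorem fin_adj {L : Subfield Ω} {θ : Ω} (h : IsIntegral L θ) : Fin L (adj L θ) := by
  classical
  have := Fin.of_adjoin L ({θ} : Finset Ω) fun x hx => by rwa [Finset.mem_singleton.mp hx]
  rwa [Finset.coe_singleton] at this

theorem adj_sup (L Z : Subfield Ω) (θ : Ω) : adj L θ ⊔ Z = adj (L ⊔ Z) θ :=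
  le_antisymm (sup_le (adj_le (le_sup_left.trans (le_adj _ _)) (mem_adj _ _)) (le_sup_right.trans (le_adj _ _)))
    (adj_le (sup_le ((le_adj L θ).trans le_sup_left) le_sup_right)
      ((le_sup_left : adj L θ ≤ adj L θ ⊔ Z) (mem_adj _ _)))

/-- if the residue of an integral element generates an extension of full degree, the extension is weakly
unramified -/
theorem wu_of_residue {L : Subfield Ω} (θ : O) (g : L[X]) (hg : g.Monic) (hθ : aeval (θ : Ω) g = 0)
    (hdeg : g.natDegree ≤ (minpoly (kappa O L) (residue O θ)).natDegree) :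
    WU O L (adj L (θ : Ω)) := by
  classical
  intro y hy hv
  have hint : IsIntegral L (θ : Ω) := ⟨g, hg, hθ⟩
  have hy' : y ∈ Algebra.adjoin L ({(θ : Ω)} : Set Ω) := by
    rw [← IntermediateField.adjoin_simple_toSubalgebra_of_isAlgebraic hint.isAlgebraic]
    exact hy
  rw [Algebra.adjoin_singleton_eq_range_aeval] at hy'
  obtain ⟨f, rfl⟩ := hy'
  set r := f %ₘ g with hr
  have hfr : aeval (θ : Ω) f = aeval (θ : Ω) r := by
    conv_lhs => rw [← modByMonic_add_div f g]
    rw [map_add, map_mul, hθ, zero_mul, add_zero]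
  rw [AlgHom.toRingHom_eq_coe, RingHom.coe_coe, hfr] at hv ⊢
  rcases eq_or_ne r 0 with hr0 | hr0
  · exact ⟨0, zero_mem _, by simp [hr0], by simp⟩
  obtain ⟨i₀, hi₀, hmax⟩ := r.support.exists_max_image (fun i => O.valuation ((r.coeff i : L) : Ω))
    (support_nonempty.2 hr0)
  set c : L := r.coeff i₀ with hc
  have hc0 : c ≠ 0 := mem_support_iff.1 hi₀
  have hc0' : (c : Ω) ≠ 0 := fun h => hc0 (Subtype.ext h)
  have hle : ∀ i, O.valuation (((r.coeff i / c : L) : Ω)) ≤ 1 := fun i => by
    rcases eq_or_ne (r.coeff i) 0 with h | h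
    · simp [h]
    · rw [show ((r.coeff i / c : L) : Ω) = ((r.coeff i : L) : Ω) / (c : Ω) from rfl, map_div₀,
        div_le_one₀ (zero_lt_iff.2 ((Valuation.ne_zero_iff _).2 hc0'))]
      exact hmax i (mem_support_iff.2 h)
  let a : ℕ → O := fun i => ⟨((r.coeff i / c : L) : Ω), (O.valuation_le_one_iff _).1 (hle i)⟩
  let n := r.natDegree + 1
  let Y : O := ∑ i ∈ Finset.range n, a i * θ ^ i
  have hY : (Y : Ω) * (c : Ω) = aeval (θ : Ω) r := by
    rw [aeval_eq_sum_range, AddSubmonoidClass.coe_finsetSum, Finset.sum_mul]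
    refine Finset.sum_congr rfl fun i _ => ?_
    rw [MulMemClass.coe_mul, SubmonoidClass.coe_pow, Algebra.smul_def]
    change ((r.coeff i : L) : Ω) / (c : Ω) * _ * (c : Ω) = ((r.coeff i : L) : Ω) * _
    field_simp
  have hres : residue O Y ≠ 0 := by
    intro h0
    let b : ℕ → kappa O L := fun i => ⟨residue O (a i), mem_kappa.mpr ⟨a i, (r.coeff i / c).2, rfl⟩⟩
    let q : (kappa O L)[X] := ∑ i ∈ Finset.range n, C (b i) * X ^ i
    have hqc : ∀ i < n, q.coeff i = b i := fun i hi => by
      simp [q, coeff_X_pow, Finset.sum_ite_eq, hi]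
    have hb : b i₀ = 1 := by
      refine Subtype.ext ?_
      have : a i₀ = 1 := Subtype.ext (div_self hc0')
      change residue O (a i₀) = 1
      rw [this, map_one]
    have hin : i₀ < n := Nat.lt_succ_of_le (le_natDegree_of_ne_zero hc0)
    have hq0 : q ≠ 0 := fun h => by
      have := hqc i₀ hin
      rw [h, coeff_zero, hb] at this
      exact zero_ne_one this
    have hqr : aeval (residue O θ) q = 0 := by
      rw [← h0, map_sum, map_sum]
      exact Finset.sum_congr rfl fun i _ => by rw [map_mul, map_mul, map_pow, map_pow, aeval_C, aeval_X]; rfl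
    have h1 := natDegree_le_of_dvd (minpoly.dvd _ _ hqr) hq0
    have h2 : q.natDegree ≤ r.natDegree := natDegree_sum_le_of_forall_le _ _ fun i hi =>
      (natDegree_C_mul_X_pow_le _ _).trans (Nat.lt_succ_iff.mp (Finset.mem_range.mp hi))
    have h3 : r.natDegree < g.natDegree := natDegree_modByMonic_lt f hg fun h => by
      have := hθ; simp [h] at this
    omega
  have hY1 : O.valuation (Y : Ω) = 1 := by
    refine le_antisymm ((O.valuation_le_one_iff _).2 Y.2) (not_lt.1 fun h => hres ?_)
    exact (residue_eq_zero_iff _).2 ((O.valuation_lt_one_iff _).2 h)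
  refine ⟨(c : Ω), c.2, ?_, ?_⟩
  · rw [← hY, map_mul, hY1, one_mul]
  · rw [← hY, map_mul, hY1, one_mul] at hv
    exact hv

end Groth.Agent.EtRamLib.Epp
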