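import Groth.Agent.EtRamLib.Epp.KummerRoot

/-!
# Artin–Schreier reduction of small poles in mixed characteristic
-/

set_option autoImplicit false
universe u

open IsLocalRing Polynomial

namespace Groth.Agent.EtRamLib.Epp.Kum

variable {Ω : Type u} [Field Ω] {O : ValuationSubring Ω}

/-- small poles relative to `lam` -/
def Small (O : ValuationSubring Ω) (p : ℕ) (lam t : Ω) : Prop :=
  O.valuation t ^ p * O.valuation lam ≤ 1

/-- equality modulo integral elements and Artin–Schreier images of small elements of `F` -/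
def ASEq (O : ValuationSubring Ω) (p : ℕ) (lam : Ω) (F : Subfield Ω) (ξ η : Ω) : Prop :=
  ∃ t ∈ F, Small O p lam t ∧ O.valuation (ξ - η - (t ^ p - t)) ≤ 1

theorem small_zero {p : ℕ} [hp : Fact p.Prime] (lam : Ω) : Small O p lam 0 := by
  simp [Small, hp.out.ne_zero]

theorem Small.of_le {p : ℕ} {lam s t : Ω} (ht : Small O p lam t) (h : O.valuation s ≤ O.valuation t) :
    Small O p lam s :=
  (mul_le_mul' (pow_le_pow_left₀ zero_le h p) le_rfl).trans ht

theorem Small.add {p : ℕ} {lam s t : Ω} (hs : Small O p lam s) (ht : Small O p lam t) :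
    Small O p lam (s + t) := by
  rcases le_total (O.valuation s) (O.valuation t) with h | h
  · exact ht.of_le ((Valuation.map_add _ _ _).trans (max_le h le_rfl))
  · exact hs.of_le ((Valuation.map_add _ _ _).trans (max_le le_rfl h))

theorem small_of_val_le_one {p : ℕ} {lam t : Ω} (hl : Lam O p lam) (h : O.valuation t ≤ 1) : Small O p lam t :=
  mul_le_one' (pow_le_one₀ zero_le h) hl.lt.le

/-- the Artin–Schreier map is additive on small elements, modulo integral elements -/
theorem val_add_pow {p : ℕ} [hp : Fact p.Prime] {lam s t : Ω} (hl : Lam O p lam) (hs : Small O p lam s)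
    (ht : Small O p lam t) : O.valuation ((s + t) ^ p - s ^ p - t ^ p) ≤ 1 := by
  have hp2 := hp.out.two_le
  rcases eq_or_ne t 0 with rfl | ht0
  · simp [hp.out.ne_zero]
  have key : ∀ i ∈ Finset.Ico 1 p, O.valuation ((p.choose i : Ω) * s ^ i * t ^ (p - i)) ≤ 1 := by
    intro i hi
    rw [Finset.mem_Ico] at hi
    rw [map_mul, map_mul, map_pow, map_pow, mul_assoc]
    have h1 : O.valuation s ^ i * O.valuation t ^ (p - i) ≤ max (O.valuation s) (O.valuation t) ^ p := by
      calc _ ≤ max (O.valuation s) (O.valuation t) ^ i * max (O.valuation s) (O.valuation t) ^ (p - i) :=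
            mul_le_mul' (pow_le_pow_left₀ zero_le (le_max_left _ _) _) (pow_le_pow_left₀ zero_le (le_max_right _ _) _)
        _ = _ := by rw [← pow_add, Nat.add_sub_cancel' hi.2.le]
    refine (mul_le_mul' (val_choose hp.out (by omega) hi.2) h1).trans ?_
    rw [hl.val_p]
    have h2 : max (O.valuation s) (O.valuation t) ^ p * O.valuation lam ≤ 1 := by
      rcases le_total (O.valuation s) (O.valuation t) with h | h
      · rw [max_eq_right h]; exact ht
      · rw [max_eq_left h]; exact hs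
    calc O.valuation lam ^ (p - 1) * max (O.valuation s) (O.valuation t) ^ p
        = O.valuation lam ^ (p - 2) * (max (O.valuation s) (O.valuation t) ^ p * O.valuation lam) := by
          rw [show p - 1 = p - 2 + 1 by omega, pow_succ]
          ac_rfl
      _ ≤ 1 := mul_le_one' (pow_le_one₀ zero_le hl.lt.le) h2
  have e : (s + t) ^ p - s ^ p - t ^ p = ∑ i ∈ Finset.Ico 1 p, (p.choose i : Ω) * s ^ i * t ^ (p - i) := by
    rw [add_pow, Finset.range_eq_Ico, Finset.sum_Ico_succ_top (by omega), Finset.sum_eq_sum_Ico_succ_bot (by omega)]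
    simp only [pow_zero, Nat.sub_zero, Nat.choose_zero_right, Nat.cast_one, Nat.choose_self, Nat.sub_self, mul_one,
      one_mul, zero_add]
    rw [Finset.sum_congr rfl fun i _ => (show s ^ i * t ^ (p - i) * (p.choose i : Ω)
      = (p.choose i : Ω) * s ^ i * t ^ (p - i) by ring)]
    ring
  rw [e]
  exact Valuation.map_sum_le _ key

theorem ASEq.of_val_le {p : ℕ} [Fact p.Prime] {lam : Ω} {F : Subfield Ω} {ξ η : Ω}
    (h : O.valuation (ξ - η) ≤ 1) : ASEq O p lam F ξ η :=
  ⟨0, zero_mem _, small_zero lam, by simpa [(Fact.out : p.Prime).ne_zero] using h⟩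

theorem ASEq.refl {p : ℕ} [Fact p.Prime] {lam : Ω} {F : Subfield Ω} (ξ : Ω) : ASEq O p lam F ξ ξ :=
  ASEq.of_val_le (by simp)

theorem ASEq.add {p : ℕ} [Fact p.Prime] {lam : Ω} (hl : Lam O p lam) {F : Subfield Ω} {ξ η ξ' η' : Ω}
    (h : ASEq O p lam F ξ η) (h' : ASEq O p lam F ξ' η') : ASEq O p lam F (ξ + ξ') (η + η') := by
  obtain ⟨t, ht, hts, htv⟩ := h
  obtain ⟨t', ht', hts', htv'⟩ := h'
  refine ⟨t + t', add_mem ht ht', hts.add hts', ?_⟩
  rw [show ξ + ξ' - (η + η') - ((t + t') ^ p - (t + t')) = (ξ - η - (t ^ p - t)) + (ξ' - η' - (t' ^ p - t'))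
    - ((t + t') ^ p - t ^ p - t' ^ p) by ring]
  exact (Valuation.map_sub _ _ _).trans
    (max_le ((Valuation.map_add _ _ _).trans (max_le htv htv')) (val_add_pow hl hts hts'))

theorem ASEq.trans {p : ℕ} [Fact p.Prime] {lam : Ω} (hl : Lam O p lam) {F : Subfield Ω} {ξ η ζ : Ω}
    (h : ASEq O p lam F ξ η) (h' : ASEq O p lam F η ζ) : ASEq O p lam F ξ ζ := by
  obtain ⟨t, ht, hts, htv⟩ := h
  obtain ⟨t', ht', hts', htv'⟩ := h'
  refine ⟨t + t', add_mem ht ht', hts.add hts', ?_⟩
  rw [show ξ - ζ - ((t + t') ^ p - (t + t')) = (ξ - η - (t ^ p - t)) + (η - ζ - (t' ^ p - t'))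
    - ((t + t') ^ p - t ^ p - t' ^ p) by ring]
  exact (Valuation.map_sub _ _ _).trans
    (max_le ((Valuation.map_add _ _ _).trans (max_le htv htv')) (val_add_pow hl hts hts'))

theorem ASEq.mono {p : ℕ} {lam : Ω} {F F' : Subfield Ω} (hF : F ≤ F') {ξ η : Ω} (h : ASEq O p lam F ξ η) :
    ASEq O p lam F' ξ η :=
  h.imp fun _ ht => ⟨hF ht.1, ht.2⟩

theorem ASEq.sum {p : ℕ} [Fact p.Prime] {lam : Ω} (hl : Lam O p lam) {F : Subfield Ω} {ι : Type*} (s : Finset ι)
    {f g : ι → Ω} (h : ∀ i ∈ s, ASEq O p lam F (f i) (g i)) :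
    ASEq O p lam F (∑ i ∈ s, f i) (∑ i ∈ s, g i) := by
  classical
  induction s using Finset.induction with
  | empty => simpa using ASEq.refl (O := O) (p := p) (lam := lam) (F := F) (0 : Ω)
  | @insert b s hb ih =>
    rw [Finset.sum_insert hb, Finset.sum_insert hb]
    exact (h b (Finset.mem_insert_self b s)).add hl (ih fun i hi => h i (Finset.mem_insert_of_mem hi))

/-- iterated `p`-th powers of small elements -/
theorem aseq_pow {p : ℕ} [Fact p.Prime] {lam : Ω} (hl : Lam O p lam) {F : Subfield Ω} {z : Ω} (hz : z ∈ F) :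
    ∀ m : ℕ, (∀ k < m, Small O p lam (z ^ p ^ k)) → ASEq O p lam F (z ^ p ^ m) z := by
  intro m
  induction m with
  | zero => intro _; rw [pow_zero, pow_one]; exact ASEq.refl z
  | succ m ih =>
    intro h
    refine ASEq.trans hl ⟨z ^ p ^ m, pow_mem hz _, h m (Nat.lt_succ_self m), ?_⟩ (ih fun k hk => h k (hk.trans (Nat.lt_succ_self m)))
    rw [pow_succ, pow_mul, sub_self]
    simp

/-- `Small` elements are transported to principal units -/
theorem val_lam_mul_lt {p : ℕ} [hp : Fact p.Prime] {lam t : Ω} (hl : Lam O p lam) (ht : Small O p lam t) :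
    O.valuation (lam * t) < 1 := by
  refine not_le.1 fun h => ?_
  have h1 : (1 : O.ValueGroup) ≤ O.valuation (lam * t) ^ p := one_le_pow₀ h
  rw [map_mul, mul_pow] at h1
  have h2 : O.valuation lam ^ (p - 1) * (O.valuation t ^ p * O.valuation lam) < 1 :=
    mul_lt_one_of_lt_of_le (pow_lt_one₀ zero_le hl.lt (by have := hp.out.two_le; omega)) ht
  refine absurd h2 (not_lt.2 (h1.trans (le_of_eq ?_)))
  conv_lhs => rw [← Nat.sub_add_cancel hp.out.one_le, pow_succ (O.valuation lam)]
  rw [Nat.sub_add_cancel hp.out.one_le, mul_assoc, mul_comm (O.valuation lam) (O.valuation t ^ p)]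

/-- binomial expansion against the Artin–Schreier map -/
theorem val_pow_sub_as {p : ℕ} [hp : Fact p.Prime] {lam t : Ω} (hl : Lam O p lam) (ht : Small O p lam t) :
    O.valuation ((1 + lam * t) ^ p - 1 - lam ^ p * (t ^ p - t)) ≤ O.valuation lam ^ p := by
  have hp2 := hp.out.two_le
  obtain ⟨u, hu, hpu⟩ := hl.eqn
  have hlp : lam ^ p = lam ^ (p - 1) * lam := by rw [← pow_succ, Nat.sub_add_cancel hp.out.one_le]
  have e : (1 + lam * t) ^ p - 1 - lam ^ p * (t ^ p - t) =
      -(lam ^ p * ((u - 1) * t)) + ∑ i ∈ Finset.Ico 2 p, (p.choose i : Ω) * (lam * t) ^ i := by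
    rw [one_add_pow p hp2, hpu, mul_pow, hlp]
    ring
  rw [e]
  have hlam : ∀ i, 2 ≤ i → i ≤ p → O.valuation lam ^ (i - 1) * O.valuation t ^ i ≤ 1 := by
    intro i hi hip
    rcases le_or_gt (O.valuation t) 1 with h | h
    · exact mul_le_one' (pow_le_one₀ zero_le hl.lt.le) (pow_le_one₀ zero_le h)
    · calc O.valuation lam ^ (i - 1) * O.valuation t ^ i ≤ O.valuation lam ^ (i - 1) * O.valuation t ^ p :=
            mul_le_mul' le_rfl (pow_le_pow_right₀ h.le hip)
        _ = O.valuation lam ^ (i - 2) * (O.valuation t ^ p * O.valuation lam) := by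
            rw [show i - 1 = i - 2 + 1 by omega, pow_succ]
            ac_rfl
        _ ≤ 1 := mul_le_one' (pow_le_one₀ zero_le hl.lt.le) ht
  refine (Valuation.map_add _ _ _).trans (max_le ?_ (Valuation.map_sum_le _ fun i hi => ?_))
  · rw [Valuation.map_neg, map_mul, map_pow, map_mul]
    refine mul_le_of_le_one_right' ((mul_le_mul' hu le_rfl).trans ?_)
    rw [← map_mul]
    exact (val_lam_mul_lt hl ht).le
  · rw [Finset.mem_Ico] at hi
    rw [map_mul, map_pow, map_mul, mul_pow]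
    refine (mul_le_mul' (val_choose hp.out (by omega) hi.2) le_rfl).trans ?_
    rw [hl.val_p]
    calc O.valuation lam ^ (p - 1) * (O.valuation lam ^ i * O.valuation t ^ i)
        = O.valuation lam ^ p * (O.valuation lam ^ (i - 1) * O.valuation t ^ i) := by
          rw [← mul_assoc, ← mul_assoc, ← pow_add, ← pow_add, show p - 1 + i = p + (i - 1) by omega]
      _ ≤ O.valuation lam ^ p := mul_le_of_le_one_right' (hlam i hi.1 hi.2.le)

/-- a uniformiser of `K` is one of `L` -/
theorem unifL {p : ℕ} {K L : Subfield Ω} (h : Ctx O p K L) :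
    ∃ π ∈ K, π ≠ 0 ∧ O.valuation π < 1 ∧ (∀ y ∈ L, O.valuation y < 1 → O.valuation y ≤ O.valuation π) ∧
      ∀ y ∈ L, y ≠ 0 → ∃ n : ℤ, O.valuation y = O.valuation π ^ n := by
  obtain ⟨π, hπK, hπ0, hπ1, hmax, -⟩ := exists_unif h.cplK
  obtain ⟨ϖ, hϖL, hϖ0, hϖ1, hmaxL, hval⟩ := exists_unif h.cplL
  obtain ⟨x, hx, hle, hlt⟩ := h.wu ϖ hϖL hϖ1
  have he : O.valuation π = O.valuation ϖ :=
    le_antisymm (hmaxL π (h.le hπK) hπ1) (hle.trans (hmax x hx hlt))
  exact ⟨π, hπK, hπ0, hπ1, fun y hy hv => he ▸ hmaxL y hy hv, fun y hy hy0 => he ▸ hval y hy hy0⟩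

theorem lower {π : Ω} (hπ0 : π ≠ 0) {L : Subfield Ω} (hπ : π ∈ L)
    (hmax : ∀ y ∈ L, O.valuation y < 1 → O.valuation y ≤ O.valuation π) {y : Ω} (hy : y ∈ L) (n : ℕ)
    (h : O.valuation (y * π ^ (n + 1)) < 1) : O.valuation (y * π ^ n) ≤ 1 := by
  have h1 := hmax _ (mul_mem hy (pow_mem hπ _)) h
  rw [pow_succ, ← mul_assoc, map_mul] at h1
  exact le_of_mul_le_mul_right (h1.trans (one_mul _).ge) (zero_lt_iff.2 ((Valuation.ne_zero_iff _).2 hπ0))

/-- residues: either constant or a finite power of a non-power -/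
theorem residue_cases {p : ℕ} {K L : Subfield Ω} (h : Ctx O p K L) {z : ResidueField O} (hz : z ∈ kappa O L) :
    z ∈ kappa O K ∨ ∃ m : ℕ, ∃ d ∈ kappa O L, NP O p L d ∧ d ^ p ^ m = z := by
  classical
  rw [or_iff_not_imp_left]
  intro hzK
  have hex : ∃ n : ℕ, ¬ ∃ y ∈ kappa O L, y ^ p ^ n = z := by
    by_contra hh
    push Not at hh
    exact hzK (h.core z hz hh)
  have hn0 : Nat.find hex ≠ 0 := fun h0 => Nat.find_spec hex (h0 ▸ ⟨z, hz, by rw [pow_zero, pow_one]⟩)
  obtain ⟨m, hm⟩ := Nat.exists_eq_succ_of_ne_zero hn0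
  obtain ⟨d, hd, hdz⟩ := not_not.1 (Nat.find_min hex (hm ▸ Nat.lt_succ_self m))
  refine ⟨m, d, hd, fun y hy hyd => Nat.find_spec hex ⟨y, hy, ?_⟩, hdz⟩
  rw [hm, pow_succ', pow_mul, hyd, hdz]

/-- normal form of small poles over `L` -/
theorem decompose {p : ℕ} [hp : Fact p.Prime] {K L : Subfield Ω} (h : Ctx O p K L) {lam π : Ω}
    (hl : Lam O p lam) (hπK : π ∈ K) (hπ0 : π ≠ 0) (hπ1 : O.valuation π < 1)
    (hmax : ∀ y ∈ L, O.valuation y < 1 → O.valuation y ≤ O.valuation π) :
    ∀ q : ℕ, O.valuation lam ≤ O.valuation π ^ q → ∀ ξ ∈ L, O.valuation (ξ * π ^ q) ≤ 1 →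
      ∃ (S : Finset ℕ) (m : ℕ → ℕ) (D : ℕ → O) (ξK : Ω),
        (∀ i ∈ S, 1 ≤ i ∧ i ≤ q ∧ (D i : Ω) ∈ L ∧ NP O p L (residue O (D i)) ∧ (p ∣ i → m i = 0)) ∧
        ξK ∈ K ∧ O.valuation (ξK * π ^ q) ≤ 1 ∧
        ASEq O p lam L ξ (ξK + ∑ i ∈ S, (π ^ i)⁻¹ * (D i : Ω) ^ p ^ m i) := by
  classical
  intro q
  induction q with
  | zero =>
    intro _ ξ hξL hξ
    exact ⟨∅, fun _ => 0, fun _ => 0, 0, by simp, zero_mem _, by simp,
      ASEq.of_val_le (by simpa using hξ)⟩
  | succ q ih =>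
    intro hlam ξ hξL hξ
    have hπq : O.valuation lam ≤ O.valuation π ^ q :=
      hlam.trans (pow_le_pow_of_le_one zero_le hπ1.le (Nat.le_succ q))
    have hπn : π ^ (q + 1) ≠ 0 := pow_ne_zero _ hπ0
    let y : O := ⟨ξ * π ^ (q + 1), (O.valuation_le_one_iff _).1 hξ⟩
    have hyL : residue O y ∈ kappa O L :=
      mem_kappa.2 ⟨y, mul_mem hξL (pow_mem (h.le hπK) _), rfl⟩
    -- removing a lift of the leading residue
    have hstep : ∀ (c : O), (c : Ω) ∈ L → residue O c = residue O y →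
        O.valuation ((ξ - (π ^ (q + 1))⁻¹ * c) * π ^ q) ≤ 1 := by
      intro c hc hcy
      refine lower hπ0 (h.le hπK) hmax (sub_mem hξL (mul_mem (inv_mem (pow_mem (h.le hπK) _)) hc)) q ?_
      rw [sub_mul, mul_right_comm, inv_mul_cancel₀ hπn, one_mul]
      exact residue_eq_iff.1 hcy.symm
    have hweak : ∀ x : Ω, O.valuation (x * π ^ q) ≤ 1 → O.valuation (x * π ^ (q + 1)) ≤ 1 := fun x hx => by
      rw [pow_succ, ← mul_assoc, map_mul]; exact mul_le_one' hx hπ1.le
    rcases residue_cases h hyL with hK | ⟨m₀, d, hd, hnp, hdm⟩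
    · obtain ⟨c, hc, hcy⟩ := mem_kappa.1 hK
      obtain ⟨S, m, D, ξK, hS, hξK, hξKv, has⟩ := ih hπq _
        (sub_mem hξL (mul_mem (inv_mem (pow_mem (h.le hπK) _)) (h.le hc))) (hstep c (h.le hc) hcy)
      refine ⟨S, m, D, ξK + (π ^ (q + 1))⁻¹ * c, fun i hi => ⟨(hS i hi).1, (hS i hi).2.1.trans (Nat.le_succ q),
        (hS i hi).2.2⟩, add_mem hξK (mul_mem (inv_mem (pow_mem hπK _)) hc), ?_, ?_⟩
      · rw [add_mul]
        refine (Valuation.map_add _ _ _).trans (max_le (hweak _ hξKv) ?_)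
        rw [mul_right_comm, inv_mul_cancel₀ hπn, one_mul]
        exact (O.valuation_le_one_iff _).2 c.2
      · have := has.add hl (ASEq.refl ((π ^ (q + 1))⁻¹ * (c : Ω)))
        rw [sub_add_cancel, add_right_comm] at this
        exact this
    · by_cases hdiv : p ∣ q + 1 ∧ m₀ ≠ 0
      · obtain ⟨⟨r, hr⟩, hm₀⟩ := hdiv
        obtain ⟨c, hc, hcd⟩ := mem_kappa.1 (pow_mem hd (p ^ (m₀ - 1)))
        have hcp : residue O (c ^ p) = residue O y := by
          rw [map_pow, hcd, ← pow_mul, ← pow_succ, Nat.sub_add_cancel (Nat.one_le_iff_ne_zero.2 hm₀), hdm]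
        set t : Ω := (π ^ r)⁻¹ * c with ht
        have htp : t ^ p = (π ^ (q + 1))⁻¹ * ((c ^ p : O) : Ω) := by
          rw [ht, mul_pow, inv_pow, ← pow_mul, hr, mul_comm r p]; rfl
        have hts : Small O p lam t := by
          unfold Small
          rw [← map_pow, htp, ← map_mul, mul_right_comm, map_mul]
          refine mul_le_one' ?_ ((O.valuation_le_one_iff _).2 (c ^ p).2)
          rw [map_mul, map_inv₀, map_pow, inv_mul_le_one₀ (pow_pos (zero_lt_iff.2 ((Valuation.ne_zero_iff _).2 hπ0)) _)]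
          exact hlam
        have hrq : r ≤ q := by
          have := hp.out.two_le
          rcases r with _ | r
          · omega
          · nlinarith
        have htL : t ∈ L := mul_mem (inv_mem (pow_mem (h.le hπK) _)) hc
        have hv : O.valuation ((ξ - (t ^ p - t)) * π ^ q) ≤ 1 := by
          rw [show (ξ - (t ^ p - t)) * π ^ q = (ξ - t ^ p) * π ^ q + t * π ^ q by ring]
          refine (Valuation.map_add _ _ _).trans (max_le ?_ ?_)
          · rw [htp]; exact hstep (c ^ p) (pow_mem hc p) hcp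
          · rw [ht, mul_right_comm, ← pow_sub_mul_pow π hrq, mul_comm (π ^ (q - r)), ← mul_assoc,
              inv_mul_cancel₀ (pow_ne_zero _ hπ0), one_mul, map_mul, map_pow]
            exact mul_le_one' (pow_le_one₀ zero_le hπ1.le) ((O.valuation_le_one_iff _).2 c.2)
        obtain ⟨S, m, D, ξK, hS, hξK, hξKv, has⟩ := ih hπq _ (sub_mem hξL (sub_mem (pow_mem htL p) htL)) hv
        refine ⟨S, m, D, ξK, fun i hi => ⟨(hS i hi).1, (hS i hi).2.1.trans (Nat.le_succ q), (hS i hi).2.2⟩, hξK,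
          hweak _ hξKv, ASEq.trans hl ⟨t, htL, hts, ?_⟩ has⟩
        simp
      · obtain ⟨c, hc, hcd⟩ := mem_kappa.1 hd
        have hcp : residue O (c ^ p ^ m₀) = residue O y := by rw [map_pow, hcd, hdm]
        obtain ⟨S, m, D, ξK, hS, hξK, hξKv, has⟩ := ih hπq _
          (sub_mem hξL (mul_mem (inv_mem (pow_mem (h.le hπK) _)) (show ((c ^ p ^ m₀ : O) : Ω) ∈ L from pow_mem hc _)))
          (hstep (c ^ p ^ m₀) (pow_mem hc _) hcp)
        have hnot : q + 1 ∉ S := fun hmem => by have := (hS _ hmem).2.1; omega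
        refine ⟨insert (q + 1) S, Function.update m (q + 1) m₀, Function.update D (q + 1) c, ξK, ?_, hξK,
          hweak _ hξKv, ?_⟩
        · intro i hi
          rcases Finset.mem_insert.1 hi with rfl | hi
          · simp only [Function.update_self]
            refine ⟨Nat.succ_pos _, le_rfl, hc, hcd ▸ hnp, fun hpi => ?_⟩
            by_contra hne
            exact hdiv ⟨hpi, hne⟩
          · have hne : i ≠ q + 1 := fun e => hnot (e ▸ hi)
            simp only [Function.update_of_ne hne]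
            exact ⟨(hS i hi).1, (hS i hi).2.1.trans (Nat.le_succ q), (hS i hi).2.2⟩
        · have := has.add hl (ASEq.refl ((π ^ (q + 1))⁻¹ * ((c ^ p ^ m₀ : O) : Ω)))
          rw [sub_add_cancel] at this
          rw [Finset.sum_insert hnot, Function.update_self, Function.update_self,
            Finset.sum_congr rfl fun i hi => by
              rw [Function.update_of_ne (fun e : i = q + 1 => hnot (e ▸ hi)),
                Function.update_of_ne (fun e : i = q + 1 => hnot (e ▸ hi))],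
            ← add_assoc, add_right_comm]
          exact this

end Groth.Agent.EtRamLib.Epp.Kum
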