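import Groth.Agent.EtRamLib.Epp.KummerApprox
import Groth.Agent.EtRamLib.AS.Solve

/-!
# Kummer steps in mixed characteristic
-/

set_option autoImplicit false
universe u

open IsLocalRing Polynomial

namespace Groth.Agent.EtRamLib.Epp.Kum

variable {Ω : Type u} [Field Ω] {O : ValuationSubring Ω}

theorem goal_reduce {K K₁ L : Subfield Ω} {a : Ω} (hK₁ : Fin K K₁) (h : Goal O K₁ (adj (L ⊔ K₁) a)) :
    Goal O K (adj L a) := by
  obtain ⟨K₂, hK₂, hw⟩ := h
  refine ⟨K₂, hK₁.trans hK₂, ?_⟩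
  rwa [← adj_sup, sup_assoc, sup_eq_right.mpr hK₂.1] at hw

theorem goal_of_wu_adj {p : ℕ} [hp : Fact p.Prime] {K L : Subfield Ω} (h : Ctx O p K L) {a : Ω}
    (hw : WU O L (adj L a)) : Goal O K (adj L a) :=
  goal_of_wu (h.le.trans (le_adj L a)) (h.wu.trans hw)

theorem adj_mul {L : Subfield Ω} {a s : Ω} (hs : s ∈ L) (hs0 : s ≠ 0) : adj L (a / s) = adj L a := by
  refine le_antisymm (adj_le (le_adj L a) (div_mem (mem_adj L a) (le_adj L a hs))) (adj_le (le_adj L _) ?_)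
  have h := mul_mem (mem_adj L (a / s)) (le_adj L (a / s) hs)
  rwa [div_mul_cancel₀ _ hs0] at h

/-- adjoining a `q`-th root -/
theorem exists_root [IsAlgClosed Ω] {q : ℕ} (hq : 0 < q) {K : Subfield Ω} {π : Ω} (hπ : π ∈ K) :
    ∃ x, x ^ q = π ∧ Fin K (adj K x) := by
  obtain ⟨x, hx⟩ := IsAlgClosed.exists_pow_nat_eq π hq
  exact ⟨x, hx, fin_adj (IsIntegral.of_pow hq (hx ▸ isIntegral_algebraMap (x := (⟨π, hπ⟩ : K))))⟩

theorem val_pos {π : Ω} (h : π ≠ 0) : 0 < O.valuation π := zero_lt_iff.2 ((Valuation.ne_zero_iff _).2 h)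

theorem lt_one_of_le_of_lt {a b : O.ValueGroup} (ha : a ≤ 1) (hb : b < 1) : a * b < 1 :=
  (mul_le_of_le_one_left' ha).trans_lt hb

theorem val_lt_one_of_pow {x π : Ω} {n : ℕ} (h : x ^ n = π) (hπ : O.valuation π < 1) : O.valuation x < 1 :=
  not_le.1 fun h' => absurd (one_le_pow₀ (n := n) h') (not_le.2 (by rwa [← map_pow, h]))

theorem exists_nat_pow {π y : Ω} (hπ1 : O.valuation π < 1) (hπ0 : π ≠ 0) (hy : O.valuation y ≤ 1) {n : ℤ}
    (h : O.valuation y = O.valuation π ^ n) : ∃ k : ℕ, O.valuation y = O.valuation π ^ k := by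
  rcases Int.le_total 0 n with hn | hn
  · lift n to ℕ using hn
    exact ⟨n, by rwa [zpow_natCast] at h⟩
  · obtain ⟨k, rfl⟩ := Int.exists_eq_neg_ofNat hn
    refine ⟨0, ?_⟩
    rw [pow_zero]
    refine le_antisymm hy ?_
    rw [h, zpow_neg, zpow_natCast]
    exact one_le_inv_iff₀.2 ⟨pow_pos (val_pos hπ0) _, pow_le_one₀ zero_le hπ1.le⟩

/-- the case of units congruent to `1` modulo `p` -/
theorem goal_small [IsAlgClosed Ω] {p : ℕ} [hp : Fact p.Prime] [CharP (ResidueField O) p] {K L : Subfield Ω}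
    (h : Ctx O p K L) {lam : Ω} (hl : Lam O p lam) (hlK : lam ∈ K) {δ a : Ω} (hδL : δ ∈ L)
    (hδ : O.valuation δ ≤ O.valuation (p : Ω)) (ha : a ^ p = 1 + δ) : Goal O K (adj L a) := by
  classical
  obtain ⟨π, hπK, hπ0, hπ1, hmax, hval⟩ := unifL h
  obtain ⟨n, hn⟩ := hval lam (h.le hlK) hl.ne
  obtain ⟨q, hq⟩ := exists_nat_pow hπ1 hπ0 hl.lt.le hn
  set ξ : Ω := δ / lam ^ p with hξ
  have hlp0 : lam ^ p ≠ 0 := pow_ne_zero _ hl.ne
  have hξq : O.valuation (ξ * π ^ q) ≤ 1 := by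
    rw [map_mul, map_pow, ← hq, hξ, map_div₀, map_pow, div_mul_eq_mul_div, div_le_one₀ (pow_pos (val_pos hl.ne) _)]
    refine (mul_le_mul' hδ le_rfl).trans (le_of_eq ?_)
    rw [hl.val_p, ← pow_succ, Nat.sub_add_cancel hp.out.one_le]
  obtain ⟨S, m, D, ξK, hS, hξK, hξKv, has⟩ :=
    decompose h hl hπK hπ0 hπ1 hmax q hq.le ξ (div_mem hδL (pow_mem (h.le hlK) _)) hξq
  -- killing the constant part
  obtain ⟨t₀, ht₀⟩ := IsAlgClosed.exists_aeval_eq_zero Ω (X ^ p - X - C ξK : Polynomial Ω) (by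
    rw [sub_sub, degree_sub_eq_left_of_degree_lt (by
      rw [degree_X_pow, degree_X_add_C]; exact_mod_cast hp.out.one_lt), degree_X_pow]
    exact_mod_cast hp.out.ne_zero)
  have ht₀' : t₀ ^ p - t₀ = ξK := by simpa [sub_eq_zero] using ht₀
  have hsmall₀ : Small O p lam t₀ := by
    rcases le_or_gt (O.valuation t₀) 1 with h1 | h1
    · exact small_of_val_le_one hl h1
    · have hlt : O.valuation t₀ < O.valuation (t₀ ^ p) := by
        rw [map_pow]; exact lt_self_pow₀ h1 hp.out.one_lt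
      have e : O.valuation ξK = O.valuation t₀ ^ p := by
        rw [← ht₀', Valuation.map_sub_eq_of_lt_left _ hlt, map_pow]
      unfold Small
      rw [← e, hq, ← map_pow, ← map_mul]
      exact hξKv
  -- the totally ramified extension
  set M : ℕ := S.sup m with hM
  obtain ⟨x, hx, hxfin⟩ := exists_root (Ω := Ω) (q := p ^ (M + 1)) (pow_pos hp.out.pos _) hπK
  have ht₀i : IsIntegral (adj K x) t₀ := by
    refine isIntegral_of_le (le_adj K x) ⟨X ^ p - X - C (⟨ξK, hξK⟩ : K), ?_, ?_⟩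
    · rw [sub_sub]
      exact monic_X_pow_sub ((degree_X_add_C _).trans_lt (by exact_mod_cast hp.out.one_lt))
    · simp only [eval₂_sub, eval₂_pow, eval₂_X, eval₂_C]
      change t₀ ^ p - t₀ - ξK = 0
      rw [ht₀', sub_self]
  let K₁ : Subfield Ω := adj (adj K x) t₀
  have hK₁ : Fin K K₁ := hxfin.trans (fin_adj ht₀i)
  refine goal_reduce hK₁ (goal_of_wu_adj (h.baseChange hK₁) ?_)
  let F : Subfield Ω := L ⊔ K₁
  change WU O F (adj F a)
  have hLF : L ≤ F := le_sup_left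
  have hKF : K₁ ≤ F := le_sup_right
  have hxF : x ∈ F := hKF (le_adj _ _ (mem_adj K x))
  have ht₀F : t₀ ∈ F := hKF (mem_adj _ _)
  have hlF : lam ∈ F := hLF (h.le hlK)
  set y : Ω := x ^ p with hy
  have hyM : y ^ p ^ M = π := by rw [hy, ← pow_mul, ← pow_succ', hx]
  have hx1 : O.valuation x < 1 := val_lt_one_of_pow hx hπ1
  have hy1 : O.valuation y < 1 := val_lt_one_of_pow hyM hπ1
  have hx0 : x ≠ 0 := fun h0 => hπ0 (by rw [← hx, h0, zero_pow (pow_ne_zero _ hp.out.ne_zero)])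
  have hy0 : y ≠ 0 := pow_ne_zero _ hx0
  let nn : ℕ → ℕ := fun i => i * p ^ (M - m i)
  have hmM : ∀ i ∈ S, m i ≤ M := fun i hi => Finset.le_sup hi
  have hterm : ∀ i ∈ S, ASEq O p lam F ((π ^ i)⁻¹ * (D i : Ω) ^ p ^ m i) ((y ^ nn i)⁻¹ * (D i : Ω)) := by
    intro i hi
    have e : ((y ^ nn i)⁻¹ * (D i : Ω)) ^ p ^ m i = (π ^ i)⁻¹ * (D i : Ω) ^ p ^ m i := by
      rw [mul_pow, inv_pow, ← pow_mul, show nn i * p ^ m i = p ^ M * i by
        simp only [nn]; rw [mul_assoc, ← pow_add, Nat.sub_add_cancel (hmM i hi), mul_comm], pow_mul, hyM]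
    rw [← e]
    refine aseq_pow hl (mul_mem (inv_mem (pow_mem (pow_mem hxF p) _)) (hLF (hS i hi).2.2.1)) (m i) fun k hk => ?_
    set z := (y ^ nn i)⁻¹ * (D i : Ω) with hz
    unfold Small
    rcases le_or_gt (O.valuation (z ^ p ^ k)) 1 with h1 | h1
    · exact mul_le_one' (pow_le_one₀ zero_le h1) hl.lt.le
    · have hz1 : 1 ≤ O.valuation z := by
        refine (le_of_not_gt fun hlt => ?_)
        exact absurd h1 (not_lt.2 (by rw [map_pow]; exact pow_le_one₀ zero_le hlt.le))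
      rw [← map_pow, ← pow_mul, ← pow_succ]
      refine (mul_le_mul' (show O.valuation (z ^ p ^ (k + 1)) ≤ O.valuation (z ^ p ^ m i) by
        rw [map_pow, map_pow]; exact pow_le_pow_right₀ hz1 (Nat.pow_le_pow_right hp.out.pos hk)) le_rfl).trans ?_
      rw [e, ← map_mul, mul_right_comm, map_mul]
      refine mul_le_one' ?_ (by rw [map_pow]; exact pow_le_one₀ zero_le ((O.valuation_le_one_iff _).2 (D i).2))
      rw [map_mul, map_inv₀, map_pow, inv_mul_le_one₀ (pow_pos (val_pos hπ0) _), hq]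
      exact pow_le_pow_of_le_one zero_le hπ1.le (hS i hi).2.1
  have hfin : ASEq O p lam F ξ (∑ i ∈ S, (y ^ nn i)⁻¹ * (D i : Ω)) := by
    refine ASEq.trans hl (has.mono hLF) ?_
    have hK0 : ASEq O p lam F ξK 0 := ⟨t₀, ht₀F, hsmall₀, by rw [sub_zero, ht₀', sub_self]; simp⟩
    simpa using hK0.add hl (ASEq.sum hl S hterm)
  obtain ⟨t, htF, hts, htv⟩ := hfin
  set η := ∑ i ∈ S, (y ^ nn i)⁻¹ * (D i : Ω) with hη
  set s : Ω := 1 + lam * t with hs
  have hs1 : O.valuation s = 1 := val_one_add (val_lam_mul_lt hl hts)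
  have hs0 : s ≠ 0 := fun h0 => by rw [h0, map_zero] at hs1; exact zero_ne_one hs1
  have hsF : s ∈ F := add_mem (one_mem _) (mul_mem hlF htF)
  set δ' : Ω := (1 + δ) / s ^ p - 1 with hδ'
  have hδ'F : δ' ∈ F := sub_mem (div_mem (add_mem (one_mem _) (hLF hδL)) (pow_mem hsF _)) (one_mem _)
  have ha' : (a / s) ^ p = 1 + δ' := by rw [div_pow, ha, hδ']; ring
  set ε : Ω := δ' * s ^ p - lam ^ p * η with hε
  have hεv : O.valuation ε ≤ O.valuation lam ^ p := by
    have e : ε = lam ^ p * (ξ - η - (t ^ p - t)) - ((1 + lam * t) ^ p - 1 - lam ^ p * (t ^ p - t)) := by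
      rw [hε, hδ', sub_mul, div_mul_cancel₀ _ (pow_ne_zero _ hs0), ← hs, hξ]
      field_simp
      ring
    rw [e]
    refine (Valuation.map_sub _ _ _).trans (max_le ?_ (val_pow_sub_as hl hts))
    rw [map_mul, map_pow]
    exact mul_le_of_le_one_right' htv
  rw [← adj_mul hsF hs0]
  have hvs : ∀ z, O.valuation (z / s ^ p) = O.valuation z := fun z => by
    rw [map_div₀, map_pow, hs1, one_pow, div_one]
  have hδeq : δ' = (lam ^ p * η + ε) / s ^ p := by
    rw [hε, eq_div_iff (pow_ne_zero _ hs0)]; ring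
  rcases S.eq_empty_or_nonempty with hS0 | hne
  · refine wu_root_le ((h.baseChange hK₁).cplL) hl hlF hδ'F ?_ ha'
    have hη0 : η = 0 := by rw [hη, hS0, Finset.sum_empty]
    rw [hδeq, hη0, mul_zero, zero_add, hvs]
    exact hεv
  · obtain ⟨i₀, hi₀, hmax₀⟩ := S.exists_max_image nn hne
    set N := nn i₀ with hN
    have hN0 : N ≠ 0 := Nat.mul_ne_zero (by have := (hS i₀ hi₀).1; omega) (pow_ne_zero _ hp.out.ne_zero)
    set w : Ω := lam / x ^ N with hw
    have hwF : w ∈ F := div_mem hlF (pow_mem hxF _)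
    have hxN : O.valuation x ^ N < 1 := pow_lt_one₀ zero_le hx1 hN0
    have hlw : O.valuation lam < O.valuation w := by
      rw [hw, map_div₀, map_pow, lt_div_iff₀ (pow_pos (val_pos hx0) _)]
      exact mul_lt_of_lt_one_right (val_pos hl.ne) hxN
    have hw1 : O.valuation w < 1 := by
      refine val_lt_one_of_pow (n := p) (rfl) ?_
      rw [hw, div_pow, ← pow_mul, mul_comm N p, pow_mul, ← hy, map_div₀, div_lt_one₀
        (by rw [map_pow]; exact pow_pos (val_pos hy0) _)]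
      have h1 : O.valuation (y ^ N) ≥ O.valuation (π ^ q) := by
        rw [← hyM, ← pow_mul y (p ^ M) q, map_pow O.valuation y, map_pow O.valuation y]
        refine pow_le_pow_of_le_one zero_le hy1.le ?_
        calc N ≤ q * p ^ (M - m i₀) := Nat.mul_le_mul_right _ (hS i₀ hi₀).2.1
          _ ≤ p ^ M * q := by rw [mul_comm]; exact Nat.mul_le_mul_right q (Nat.pow_le_pow_right hp.out.pos (Nat.sub_le _ _))
      refine lt_of_lt_of_le ?_ h1
      rw [map_pow, map_pow, ← hq]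
      exact pow_lt_self_of_lt_one₀ (val_pos hl.ne) hl.lt hp.out.one_lt
    have hwp : w ^ p = lam ^ p / y ^ N := by rw [hw, div_pow, ← pow_mul, mul_comm N p, pow_mul, ← hy]
    have hdiv : δ' / w ^ p = (η * y ^ N + ε / lam ^ p * y ^ N) / s ^ p := by
      rw [hδeq, hwp]; field_simp
    have hsum : O.valuation (η * y ^ N - (D i₀ : Ω)) < 1 := by
      have e : η * y ^ N - (D i₀ : Ω) = ∑ i ∈ S.erase i₀, y ^ (N - nn i) * (D i : Ω) := by
        rw [hη, Finset.sum_mul, ← Finset.add_sum_erase S _ hi₀, ← hN, mul_right_comm,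
          inv_mul_cancel₀ (pow_ne_zero _ hy0), one_mul, add_sub_cancel_left]
        refine Finset.sum_congr rfl fun i hi => ?_
        rw [pow_sub₀ y hy0 (hmax₀ i (Finset.mem_of_mem_erase hi))]
        ring
      rw [e]
      refine Valuation.map_sum_lt _ one_ne_zero fun i hi => ?_
      have hne' : nn i ≠ N := fun he => (Finset.ne_of_mem_erase hi) (AS.Solve.level_injective hp.out m
        (hS i (Finset.mem_of_mem_erase hi)).2.2.2.2 (hS i₀ hi₀).2.2.2.2 (hmM i (Finset.mem_of_mem_erase hi))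
        (hmM i₀ hi₀) he)
      have hlt : nn i < N := lt_of_le_of_ne (hmax₀ i (Finset.mem_of_mem_erase hi)) hne'
      rw [map_mul, map_pow]
      exact mul_lt_one_of_lt_of_le (pow_lt_one₀ zero_le hy1 (by omega)) ((O.valuation_le_one_iff _).2 (D i).2)
    have hsmallε : O.valuation (ε / lam ^ p * y ^ N) < 1 := by
      rw [map_mul, map_div₀, map_pow, map_pow, mul_comm]
      exact mul_lt_one_of_lt_of_le (pow_lt_one₀ zero_le hy1 hN0) ((div_le_one₀ (pow_pos (val_pos hl.ne) _)).2 hεv)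
    have hsp : O.valuation (s ^ p - 1) < 1 := by
      rw [show s ^ p - 1 = ((1 + lam * t) ^ p - 1 - lam ^ p * (t ^ p - t)) + ((lam * t) ^ p - lam ^ (p - 1) * (lam * t)) by
        rw [hs, mul_pow, ← mul_assoc, ← pow_succ, Nat.sub_add_cancel hp.out.one_le]; ring]
      refine (Valuation.map_add _ _ _).trans_lt (max_lt ((val_pow_sub_as hl hts).trans_lt
        (pow_lt_one₀ zero_le hl.lt hp.out.ne_zero)) ((Valuation.map_sub _ _ _).trans_lt (max_lt ?_ ?_)))
      · rw [map_pow]; exact pow_lt_one₀ zero_le (val_lam_mul_lt hl hts) hp.out.ne_zero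
      · rw [map_mul, map_pow]
        exact lt_one_of_le_of_lt (pow_le_one₀ zero_le hl.lt.le) (val_lam_mul_lt hl hts)
    have key : O.valuation (δ' / w ^ p - (D i₀ : Ω)) < 1 := by
      rw [hdiv, show (η * y ^ N + ε / lam ^ p * y ^ N) / s ^ p - (D i₀ : Ω) =
        ((η * y ^ N - (D i₀ : Ω)) + ε / lam ^ p * y ^ N - (D i₀ : Ω) * (s ^ p - 1)) / s ^ p by
          rw [eq_div_iff (pow_ne_zero _ hs0), sub_mul, div_mul_cancel₀ _ (pow_ne_zero _ hs0)]; ring, hvs]
      refine (Valuation.map_sub _ _ _).trans_lt (max_lt ((Valuation.map_add _ _ _).trans_lt (max_lt hsum hsmallε)) ?_)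
      rw [map_mul]
      exact lt_one_of_le_of_lt ((O.valuation_le_one_iff _).2 (D i₀).2) hsp
    have hO : δ' / w ^ p ∈ O := by
      rw [← O.valuation_le_one_iff, ← sub_add_cancel (δ' / w ^ p) (D i₀ : Ω)]
      exact (Valuation.map_add _ _ _).trans (max_le key.le ((O.valuation_le_one_iff _).2 (D i₀).2))
    refine wu_root_np hl hwF hw1 hlw hδ'F ⟨_, hO⟩ rfl ?_ ha'
    rw [(residue_eq_iff (x := (⟨_, hO⟩ : O)) (y := D i₀)).2 key]
    intro z hz hzp
    obtain ⟨-, hkap, -, -⟩ := Epp.baseChange h.cplK h.cplL h.le h.wu h.res hK₁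
    exact (hS i₀ hi₀).2.2.2.1 z (hkap ▸ hz) hzp

/-- one round of approximation modulo `p` -/
theorem round {p : ℕ} [hp : Fact p.Prime] [CharP (ResidueField O) p] {K L F : Subfield Ω} (h : Ctx O p K L)
    (hLF : L ≤ F) (hkap : kappa O F = kappa O L) {lam π ρ : Ω} (hl : Lam O p lam) (hπK : π ∈ K) (hπ0 : π ≠ 0)
    (hπ1 : O.valuation π < 1) (hmax : ∀ y ∈ L, O.valuation y < 1 → O.valuation y ≤ O.valuation π)
    (hρF : ρ ∈ F) (hρ : ρ ^ p = π) {a : Ω} (haL : a ^ p ∈ L) (ha : O.valuation (a ^ p - 1) < 1) :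
    ∀ n : ℕ, WU O F (adj F a) ∨ ∃ s ∈ F, ∃ b' ∈ L, O.valuation s = 1 ∧
      O.valuation (a ^ p / s ^ p - b') ≤ O.valuation (p : Ω) ∧
      (O.valuation (b' - 1) ≤ O.valuation π ^ (n + 1) ∨ O.valuation (b' - 1) ≤ O.valuation (p : Ω)) := by
  classical
  have hp2 := hp.out.two_le
  intro n
  induction n with
  | zero =>
    refine Or.inr ⟨1, one_mem _, a ^ p, haL, map_one _, by simp, Or.inl ?_⟩
    rw [zero_add, pow_one]
    exact hmax _ (sub_mem haL (one_mem _)) ha
  | succ n ih =>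
    rcases ih with ih | ⟨s, hsF, b, hbL, hs1, hclose, hb⟩
    · exact Or.inl ih
    rcases le_or_gt (O.valuation (b - 1)) (O.valuation (p : Ω)) with hsm | hbig
    · exact Or.inr ⟨s, hsF, b, hbL, hs1, hclose, Or.inr hsm⟩
    have hbπ : O.valuation (b - 1) ≤ O.valuation π ^ (n + 1) := hb.resolve_right (not_le.2 hbig)
    have hπn : π ^ (n + 1) ≠ 0 := pow_ne_zero _ hπ0
    have hπL := h.le hπK
    have hρ0 : ρ ≠ 0 := fun h0 => hπ0 (by rw [← hρ, h0, zero_pow hp.out.ne_zero])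
    have hρ1 : O.valuation ρ < 1 := val_lt_one_of_pow hρ hπ1
    have hq : O.valuation ((b - 1) / π ^ (n + 1)) ≤ 1 := by
      rw [map_div₀, map_pow, div_le_one₀ (pow_pos (val_pos hπ0) _)]; exact hbπ
    let e : O := ⟨_, (O.valuation_le_one_iff _).1 hq⟩
    have heL : (e : Ω) ∈ L := div_mem (sub_mem hbL (one_mem _)) (pow_mem hπL _)
    have hbe : b - 1 = π ^ (n + 1) * e := (mul_div_cancel₀ _ hπn).symm
    by_cases hnp : NP O p L (residue O e)
    · left
      have hs0 : s ≠ 0 := fun h0 => by rw [h0, map_zero] at hs1; exact zero_ne_one hs1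
      rw [← adj_mul hsF hs0]
      set δ := a ^ p / s ^ p - 1 with hδ
      have hδF : δ ∈ F := sub_mem (div_mem (hLF haL) (pow_mem hsF _)) (one_mem _)
      have hbig' : O.valuation (p : Ω) < O.valuation π ^ (n + 1) := hbig.trans_le hbπ
      have hw : (ρ ^ (n + 1)) ^ p = π ^ (n + 1) := by rw [← pow_mul, mul_comm, pow_mul, hρ]
      have hlw : O.valuation lam < O.valuation (ρ ^ (n + 1)) := by
        refine (pow_lt_pow_iff_left₀ zero_le zero_le hp.out.ne_zero).1 ?_
        rw [← map_pow O.valuation (ρ ^ (n + 1)), hw, map_pow]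
        refine lt_of_le_of_lt ?_ hbig'
        rw [hl.val_p]
        exact pow_le_pow_of_le_one zero_le hl.lt.le (Nat.sub_le p 1)
      have key : O.valuation (δ / (ρ ^ (n + 1)) ^ p - e) < 1 := by
        rw [hw, show δ / π ^ (n + 1) - (e : Ω) = (a ^ p / s ^ p - b) / π ^ (n + 1) by
          rw [hδ, show (e : Ω) = (b - 1) / π ^ (n + 1) from rfl]; ring,
          map_div₀, map_pow O.valuation π, div_lt_one₀ (pow_pos (val_pos hπ0) _)]
        exact hclose.trans_lt hbig'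
      have hO : δ / (ρ ^ (n + 1)) ^ p ∈ O := by
        rw [← O.valuation_le_one_iff, ← sub_add_cancel (δ / (ρ ^ (n + 1)) ^ p) (e : Ω)]
        exact (Valuation.map_add _ _ _).trans (max_le key.le ((O.valuation_le_one_iff _).2 e.2))
      refine wu_root_np hl (pow_mem hρF _) (by rw [map_pow]; exact pow_lt_one₀ zero_le hρ1 (Nat.succ_ne_zero n))
        hlw hδF ⟨_, hO⟩ rfl ?_ (by rw [div_pow, hδ]; ring)
      rw [(residue_eq_iff (x := (⟨_, hO⟩ : O)) (y := e)).2 key]
      intro z hz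
      exact hnp z (hkap ▸ hz)
    · unfold NP at hnp
      push Not at hnp
      obtain ⟨z, hz, hzp⟩ := hnp
      obtain ⟨c, hc, rfl⟩ := mem_kappa.1 hz
      rw [← map_pow] at hzp
      right
      set r : Ω := ρ ^ (n + 1) * c with hr
      have hr1 : O.valuation r < 1 := by
        rw [hr, map_mul, map_pow]
        exact mul_lt_one_of_lt_of_le (pow_lt_one₀ zero_le hρ1 (Nat.succ_ne_zero n)) ((O.valuation_le_one_iff _).2 c.2)
      have hu1 : O.valuation (1 + r) = 1 := val_one_add hr1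
      have hu0 : 1 + r ≠ 0 := fun h0 => by rw [h0, map_zero] at hu1; exact zero_ne_one hu1
      set W : Ω := 1 + π ^ (n + 1) * (c : Ω) ^ p with hW
      have hrp : r ^ p = π ^ (n + 1) * (c : Ω) ^ p := by
        rw [hr, mul_pow, ← pow_mul, mul_comm (n + 1), pow_mul, hρ]
      have hW1 : O.valuation W = 1 := by
        rw [hW, ← hrp]; exact val_one_add (by rw [map_pow]; exact pow_lt_one₀ zero_le hr1 hp.out.ne_zero)
      have hW0 : W ≠ 0 := fun h0 => by rw [h0, map_zero] at hW1; exact zero_ne_one hW1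
      have hWu : O.valuation ((1 + r) ^ p - W) ≤ O.valuation (p : Ω) := by
        rw [hW, ← hrp, one_add_pow p hp2, show 1 + (p : Ω) * r + (∑ i ∈ Finset.Ico 2 p, (p.choose i : Ω) * r ^ i)
          + r ^ p - (1 + r ^ p) = (p : Ω) * r + ∑ i ∈ Finset.Ico 2 p, (p.choose i : Ω) * r ^ i by ring]
        refine (Valuation.map_add _ _ _).trans (max_le ?_ (Valuation.map_sum_le _ fun i hi => ?_))
        · rw [map_mul]; exact mul_le_of_le_one_right' hr1.le
        · rw [Finset.mem_Ico] at hi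
          rw [map_mul, map_pow]
          exact (mul_le_mul' (val_choose hp.out (by omega) hi.2) (pow_le_one₀ zero_le hr1.le)).trans_eq (mul_one _)
      refine ⟨s * (1 + r), mul_mem hsF (add_mem (one_mem _) (mul_mem (pow_mem hρF _) (hLF hc))), b / W,
        div_mem hbL (add_mem (one_mem _) (mul_mem (pow_mem hπL _) (pow_mem hc _))), by rw [map_mul, hs1, hu1, one_mul],
        ?_, Or.inl ?_⟩
      · rw [show a ^ p / (s * (1 + r)) ^ p - b / W = (a ^ p / s ^ p - b) / (1 + r) ^ p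
          - b * ((1 + r) ^ p - W) / ((1 + r) ^ p * W) by rw [mul_pow]; field_simp; ring]
        have hb1 : O.valuation b ≤ 1 := by
          rw [← sub_add_cancel b 1]
          exact (Valuation.map_add _ _ _).trans (max_le (hbπ.trans (pow_le_one₀ zero_le hπ1.le)) (map_one _).le)
        refine (Valuation.map_sub _ _ _).trans (max_le ?_ ?_)
        · rw [map_div₀, map_pow, hu1, one_pow, div_one]; exact hclose
        · rw [map_div₀, map_mul, map_mul, map_pow, hu1, hW1, one_pow, one_mul, div_one]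
          exact mul_le_of_le_one_left' hb1 |>.trans hWu
      · rw [div_sub_one hW0, map_div₀, hW1, div_one, hW, show b - (1 + π ^ (n + 1) * (c : Ω) ^ p)
          = π ^ (n + 1) * ((e : Ω) - (c : Ω) ^ p) by rw [mul_sub, ← hbe]; ring, map_mul, map_pow,
          pow_succ (O.valuation π) (n + 1)]
        refine mul_le_mul' le_rfl (hmax _ (sub_mem heL (pow_mem hc _)) ?_)
        exact residue_eq_iff.1 hzp.symm

/-- principal units -/
theorem goal_principal [IsAlgClosed Ω] [CharZero Ω] {p : ℕ} [hp : Fact p.Prime] [CharP (ResidueField O) p]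
    {K L : Subfield Ω} (h : Ctx O p K L) {lam : Ω} (hl : Lam O p lam) (hlK : lam ∈ K) {a : Ω} (haL : a ^ p ∈ L)
    (ha : O.valuation (a ^ p - 1) < 1) : Goal O K (adj L a) := by
  obtain ⟨π, hπK, hπ0, hπ1, hmax, hval⟩ := unifL h
  obtain ⟨n, hn⟩ := hval (p : Ω) (natCast_mem L p) (Nat.cast_ne_zero.2 hp.out.ne_zero)
  obtain ⟨k, hk⟩ := exists_nat_pow hπ1 hπ0 (val_natCast p) hn
  obtain ⟨ρ, hρ, hρfin⟩ := exists_root (Ω := Ω) (q := p) hp.out.pos hπK
  have hC := h.baseChange hρfin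
  refine goal_reduce hρfin ?_
  obtain ⟨-, hkap, -, -⟩ := Epp.baseChange h.cplK h.cplL h.le h.wu h.res hρfin
  rcases round h le_sup_left hkap hl hπK hπ0 hπ1 hmax ((le_sup_right : _ ≤ L ⊔ adj K ρ) (mem_adj K ρ)) hρ haL ha k with
    hw | ⟨s, hsF, b, hbL, hs1, hclose, hb⟩
  · exact goal_of_wu_adj hC hw
  · have hs0 : s ≠ 0 := fun h0 => by rw [h0, map_zero] at hs1; exact zero_ne_one hs1
    rw [← adj_mul hsF hs0]
    have hLF : L ≤ L ⊔ adj K ρ := le_sup_left
    refine goal_small (δ := a ^ p / s ^ p - 1) hC hl (hρfin.1 hlK)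
      (sub_mem (div_mem (hLF haL) (pow_mem hsF _)) (one_mem _)) ?_ (by rw [div_pow]; ring)
    rw [← sub_add_sub_cancel _ b]
    refine (Valuation.map_add _ _ _).trans (max_le hclose (hb.elim (fun h1 => ?_) id))
    rw [hk]
    exact h1.trans (pow_le_pow_of_le_one zero_le hπ1.le (Nat.le_succ k))

/-- weak solutions of Kummer steps -/
theorem goal_adj_kummer [IsAlgClosed Ω] [CharZero Ω] {p : ℕ} [hp : Fact p.Prime] [CharP (ResidueField O) p]
    {K L : Subfield Ω} (h : Ctx O p K L) {ζ : Ω} (hζK : ζ ∈ K) (hζ : IsPrimitiveRoot ζ p) (a : Ω)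
    (ha : a ^ p ∈ L) : Goal O K (adj L a) := by
  classical
  by_cases ha0 : a = 0
  · exact goal_of_wu (h.le.trans (le_adj L a)) (h.wu.mono (adj_le le_rfl (by rw [ha0]; exact zero_mem _)))
  have hl := exists_lam (O := O) hζ
  have hlK : ζ - 1 ∈ K := sub_mem hζK (one_mem _)
  obtain ⟨π, hπK, hπ0, hπ1, hmax, hval⟩ := unifL h
  obtain ⟨n, hn⟩ := hval (a ^ p) ha (pow_ne_zero _ ha0)
  obtain ⟨ρ, hρ, hρfin⟩ := exists_root (Ω := Ω) (q := p) hp.out.pos hπK
  have hρ0 : ρ ≠ 0 := fun h0 => hπ0 (by rw [← hρ, h0, zero_pow hp.out.ne_zero])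
  have hC := h.baseChange hρfin
  refine goal_reduce hρfin ?_
  let F : Subfield Ω := L ⊔ adj K ρ
  have hsF : ρ ^ n ∈ F := zpow_mem ((le_sup_right : _ ≤ F) (mem_adj K ρ)) n
  rw [← adj_mul hsF (zpow_ne_zero _ hρ0)]
  set a₁ : Ω := a / ρ ^ n with ha₁
  have ha₁F : a₁ ^ p ∈ F := by rw [ha₁, div_pow]; exact div_mem ((le_sup_left : L ≤ F) ha) (pow_mem hsF _)
  have hv1 : O.valuation (a₁ ^ p) = 1 := by
    rw [ha₁, div_pow, ← zpow_natCast (ρ ^ n) p, ← zpow_mul, mul_comm, zpow_mul, zpow_natCast, hρ, map_div₀,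
      map_zpow₀, hn, div_self]
    exact zpow_ne_zero _ ((Valuation.ne_zero_iff _).2 hπ0)
  let e : O := ⟨a₁ ^ p, (O.valuation_le_one_iff _).1 hv1.le⟩
  by_cases hnp : NP O p F (residue O e)
  · refine goal_of_wu_adj hC ?_
    have ha₁O : a₁ ∈ O := by
      rw [← O.valuation_le_one_iff]
      refine not_lt.1 fun hlt => ?_
      exact absurd hv1 (by rw [map_pow]; exact (one_lt_pow₀ hlt hp.out.ne_zero).ne')
    refine wu_of_residue ⟨a₁, ha₁O⟩ (X ^ p - C (⟨a₁ ^ p, ha₁F⟩ : F)) (monic_X_pow_sub_C _ hp.out.ne_zero)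
      (by simp only [map_sub, map_pow, aeval_X, aeval_C]; exact sub_self _) ?_
    rw [natDegree_X_pow_sub_C]
    have hz : residue O e ∈ kappa O F := mem_kappa.2 ⟨e, ha₁F, rfl⟩
    have hirr := X_pow_sub_C_irreducible_of_prime hp.out (a := (⟨_, hz⟩ : kappa O F)) fun b hb =>
      hnp b b.2 (congrArg Subtype.val hb)
    have hroot : aeval (residue O ⟨a₁, ha₁O⟩) (X ^ p - C (⟨_, hz⟩ : kappa O F)) = 0 := by
      rw [map_sub, map_pow, aeval_X, aeval_C, sub_eq_zero, ← map_pow]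
      rfl
    rw [← minpoly.eq_of_irreducible_of_monic hirr hroot (monic_X_pow_sub_C _ hp.out.ne_zero), natDegree_X_pow_sub_C]
  · unfold NP at hnp
    push Not at hnp
    obtain ⟨z, hz, hzp⟩ := hnp
    obtain ⟨c, hc, rfl⟩ := mem_kappa.1 hz
    rw [← map_pow] at hzp
    have hd : O.valuation (a₁ ^ p - (c : Ω) ^ p) < 1 := residue_eq_iff.1 hzp.symm
    have hc1 : O.valuation ((c : Ω) ^ p) = 1 := by
      rw [← hv1]
      refine (Valuation.map_eq_of_sub_lt _ ?_)
      rw [← Valuation.map_neg, neg_sub, hv1]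
      exact hd
    have hc0 : (c : Ω) ≠ 0 := fun h0 => by simp [h0, hp.out.ne_zero] at hc1
    rw [← adj_mul hc hc0]
    refine goal_principal hC hl (hρfin.1 hlK) (by rw [div_pow]; exact div_mem ha₁F (pow_mem hc _)) ?_
    rw [div_pow, div_sub_one (pow_ne_zero _ hc0), map_div₀, hc1, div_one]
    exact hd

end Groth.Agent.EtRamLib.Epp.Kum
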