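import Groth.Agent.EtRamLib.Epp.Tower

/-!
# Roots of principal units in mixed characteristic
-/

set_option autoImplicit false
universe u

open IsLocalRing Polynomial

namespace Groth.Agent.EtRamLib.Epp.Kum

variable {Ω : Type u} [Field Ω] {O : ValuationSubring Ω}

/-- `z` is not a `p`-th power in the residue field of `F` -/
def NP (O : ValuationSubring Ω) (p : ℕ) (F : Subfield Ω) (z : ResidueField O) : Prop :=
  ∀ y ∈ kappa O F, y ^ p ≠ z

/-- `lam` behaves like `ζ - 1` -/
structure Lam (O : ValuationSubring Ω) (p : ℕ) (lam : Ω) : Prop where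
  ne : lam ≠ 0
  lt : O.valuation lam < 1
  eqn : ∃ u : Ω, O.valuation (u - 1) ≤ O.valuation lam ∧ (p : Ω) = -(u * lam ^ (p - 1))

theorem val_natCast (n : ℕ) : O.valuation (n : Ω) ≤ 1 := (O.valuation_le_one_iff _).2 (natCast_mem O n)

theorem val_choose {p i : ℕ} (hp : p.Prime) (h1 : i ≠ 0) (h2 : i < p) :
    O.valuation ((p.choose i : ℕ) : Ω) ≤ O.valuation (p : Ω) := by
  obtain ⟨k, hk⟩ := hp.dvd_choose_self h1 h2
  rw [hk, Nat.cast_mul, map_mul]
  exact mul_le_of_le_one_right' (val_natCast k)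

theorem one_add_pow (p : ℕ) (hp : 2 ≤ p) (x : Ω) :
    (1 + x) ^ p = 1 + (p : Ω) * x + (∑ i ∈ Finset.Ico 2 p, (p.choose i : Ω) * x ^ i) + x ^ p := by
  rw [add_comm 1 x, add_pow, Finset.range_eq_Ico, Finset.sum_Ico_succ_top (by omega),
    Finset.sum_eq_sum_Ico_succ_bot (by omega), Finset.sum_eq_sum_Ico_succ_bot (by omega)]
  simp only [one_pow, mul_one, pow_zero, pow_one, zero_add, Nat.choose_zero_right, Nat.choose_one_right,
    Nat.choose_self, Nat.cast_one]
  rw [Finset.sum_congr rfl fun i _ => mul_comm (x ^ i) _]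
  ring

theorem val_one_add {x : Ω} (hx : O.valuation x < 1) : O.valuation (1 + x) = 1 :=
  Valuation.map_one_add_of_lt _ hx

theorem Lam.val_p {p : ℕ} {lam : Ω} (h : Lam O p lam) : O.valuation (p : Ω) = O.valuation lam ^ (p - 1) := by
  obtain ⟨u, hu, hp⟩ := h.eqn
  rw [hp, Valuation.map_neg, map_mul, map_pow]
  have : O.valuation u = 1 := by
    rw [← add_sub_cancel 1 u]
    exact val_one_add (hu.trans_lt h.lt)
  rw [this, one_mul]

theorem residue_eq_iff {x y : O} : residue O x = residue O y ↔ O.valuation ((x : Ω) - y) < 1 := by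
  rw [← sub_eq_zero, ← map_sub, residue_eq_zero_iff]
  exact O.valuation_lt_one_iff (x - y)

theorem exists_lam {p : ℕ} [hp : Fact p.Prime] [CharP (ResidueField O) p] {ζ : Ω} (hζ : IsPrimitiveRoot ζ p) :
    Lam O p (ζ - 1) := by
  have hp0 := hp.out.ne_zero
  have hp2 := hp.out.two_le
  have hv : O.valuation ζ = 1 := by
    rw [← map_one O.valuation]
    refine val_pow_inj hp0 ?_
    rw [← map_pow, hζ.pow_eq_one, map_one, one_pow]
  let z : O := ⟨ζ, (O.valuation_le_one_iff _).1 hv.le⟩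
  have hz : residue O z = 1 := by
    refine frobenius_inj (ResidueField O) p ?_
    rw [frobenius_def, frobenius_def, one_pow, ← map_pow, show z ^ p = 1 from Subtype.ext hζ.pow_eq_one, map_one]
  have hlt : O.valuation (ζ - 1) < 1 := residue_eq_iff.1 (hz.trans (map_one _).symm)
  have hne : ζ - 1 ≠ 0 := sub_ne_zero.2 (hζ.ne_one hp.out.one_lt)
  refine ⟨hne, hlt, ?_⟩
  set l := ζ - 1 with hl
  let r : Ω := ∑ i ∈ Finset.Ico 2 p, ((p.choose i / p : ℕ) : Ω) * l ^ (i - 2)
  have hr : O.valuation r ≤ 1 := Valuation.map_sum_le _ fun i _ => by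
    rw [map_mul, map_pow]
    exact mul_le_one' (val_natCast _) (pow_le_one₀ zero_le hlt.le)
  have hlr : O.valuation (l * r) ≤ O.valuation l := by
    rw [map_mul]; exact mul_le_of_le_one_right' hr
  have h1 : O.valuation (1 + l * r) = 1 := val_one_add (hlr.trans_lt hlt)
  have h10 : 1 + l * r ≠ 0 := fun h => by rw [h, map_zero] at h1; exact zero_ne_one h1
  have hsum : ∑ i ∈ Finset.Ico 2 p, (p.choose i : Ω) * l ^ i = (p : Ω) * l * (l * r) := by
    simp only [r, Finset.mul_sum]
    refine Finset.sum_congr rfl fun i hi => ?_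
    rw [Finset.mem_Ico] at hi
    obtain ⟨k, hk⟩ := hp.out.dvd_choose_self (by omega) hi.2
    rw [hk, Nat.mul_div_cancel_left _ hp.out.pos, Nat.cast_mul]
    obtain ⟨j, rfl⟩ := Nat.exists_eq_add_of_le hi.1
    rw [Nat.add_sub_cancel_left, pow_add]
    ring
  have h0 : l ^ p + (p : Ω) * l * (1 + l * r) = 0 := by
    have h := one_add_pow p hp2 l
    rw [hsum, show (1 : Ω) + l = ζ by rw [hl]; ring, hζ.pow_eq_one] at h
    linear_combination -h
  refine ⟨(1 + l * r)⁻¹, ?_, ?_⟩
  · rw [show (1 + l * r)⁻¹ - 1 = -(l * r) * (1 + l * r)⁻¹ by field_simp; ring, map_mul, map_inv₀, h1, inv_one, mul_one,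
      Valuation.map_neg]
    exact hlr
  · refine mul_right_cancel₀ (mul_ne_zero hne h10) ?_
    have e : -((1 + l * r)⁻¹ * l ^ (p - 1)) * (l * (1 + l * r)) = -(l ^ (p - 1) * l) := by field_simp
    rw [e, ← pow_succ, Nat.sub_add_cancel hp.out.one_le]
    linear_combination h0

/-- the normalised equation of a root of a principal unit -/
theorem exists_root_poly {p : ℕ} [hp : Fact p.Prime] {F : Subfield Ω} {w δ a : Ω} (hwF : w ∈ F) (hw0 : w ≠ 0)
    (hw1 : O.valuation w < 1) (hpw : O.valuation (p : Ω) ≤ O.valuation w ^ (p - 1)) (hδF : δ ∈ F)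
    (hδ : O.valuation δ ≤ O.valuation w ^ p) (ha : a ^ p = 1 + δ) :
    ∃ (t : O) (G : (R O F)[X]) (c ξ : R O F), G.Monic ∧ G.natDegree = p ∧ aeval (t : Ω) G = 0 ∧
      a = 1 + w * t ∧ ((c : F) : Ω) = (p : Ω) / w ^ (p - 1) ∧ ((ξ : F) : Ω) = δ / w ^ p ∧
      G.map (rho O F) = X ^ p + C (rho O F c) * X - C (rho O F ξ) := by
  classical
  have hp2 := hp.out.two_le
  have hvw0 : 0 < O.valuation w := zero_lt_iff.2 ((Valuation.ne_zero_iff _).2 hw0)
  let co : ℕ → Ω := fun i => (p.choose i : Ω) / w ^ (p - i)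
  have hcoF : ∀ i, co i ∈ F := fun i => div_mem (natCast_mem F _) (pow_mem hwF _)
  have hco : ∀ i ∈ Finset.Ico 2 p, O.valuation (co i) < 1 := by
    intro i hi
    rw [Finset.mem_Ico] at hi
    simp only [co, map_div₀, map_pow]
    rw [div_lt_one₀ (pow_pos hvw0 _)]
    refine ((val_choose hp.out (by omega) hi.2).trans hpw).trans_lt ?_
    exact pow_lt_pow_right_of_lt_one₀ hvw0 hw1 (by omega)
  let ci : ℕ → R O F := fun i => if hi : i ∈ Finset.Ico 2 p then
    ⟨⟨co i, hcoF i⟩, (O.valuation_le_one_iff _).1 (hco i hi).le⟩ else 0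
  have hc : O.valuation ((p : Ω) / w ^ (p - 1)) ≤ 1 := by
    rw [map_div₀, map_pow, div_le_one₀ (pow_pos hvw0 _)]; exact hpw
  have hξ : O.valuation (δ / w ^ p) ≤ 1 := by
    rw [map_div₀, map_pow, div_le_one₀ (pow_pos hvw0 _)]; exact hδ
  let c : R O F := ⟨⟨_, div_mem (natCast_mem F _) (pow_mem hwF _)⟩, (O.valuation_le_one_iff _).1 hc⟩
  let ξ : R O F := ⟨⟨_, div_mem hδF (pow_mem hwF _)⟩, (O.valuation_le_one_iff _).1 hξ⟩
  let G : (R O F)[X] := X ^ p + ((∑ i ∈ Finset.Ico 2 p, C (ci i) * X ^ i) + C c * X - C ξ)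
  have hdeg : ((∑ i ∈ Finset.Ico 2 p, C (ci i) * X ^ i) + C c * X - C ξ).degree < (p : WithBot ℕ) := by
    refine (degree_sub_le _ _).trans_lt (max_lt ((degree_add_le _ _).trans_lt (max_lt ?_ ?_)) ?_)
    · refine (degree_sum_le _ _).trans_lt ((Finset.sup_lt_iff (WithBot.bot_lt_coe p)).2 fun i hi => ?_)
      exact (degree_C_mul_X_pow_le _ _).trans_lt (WithBot.coe_lt_coe.2 (Finset.mem_Ico.1 hi).2)
    · exact (degree_C_mul_X_le _).trans_lt (WithBot.coe_lt_coe.2 hp2)
    · exact degree_C_le.trans_lt (WithBot.coe_lt_coe.2 hp.out.pos)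
  have hGm : G.Monic := monic_X_pow_add hdeg
  have hGdeg : G.natDegree = p := by
    refine natDegree_eq_of_degree_eq_some ?_
    change (X ^ p + _ : (R O F)[X]).degree = _
    rw [degree_add_eq_left_of_degree_lt (by rwa [degree_X_pow]), degree_X_pow]
  set t : Ω := (a - 1) / w with ht
  have hat : a = 1 + w * t := by rw [ht, mul_div_cancel₀ _ hw0]; ring
  have halg : ∀ x : R O F, algebraMap (R O F) Ω x = ((x : F) : Ω) := fun _ => rfl
  have hroot : aeval t G = 0 := by
    have h := one_add_pow p hp2 (w * t)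
    rw [← hat, ha] at h
    simp only [G, map_add, map_sub, map_sum, map_mul, map_pow, aeval_X, aeval_C, halg]
    have e : ∑ i ∈ Finset.Ico 2 p, ((ci i : F) : Ω) * t ^ i
        = (∑ i ∈ Finset.Ico 2 p, (p.choose i : Ω) * (w * t) ^ i) / w ^ p := by
      rw [Finset.sum_div]
      refine Finset.sum_congr rfl fun i hi => ?_
      simp only [ci, hi, dif_pos, co]
      have hw' : w ^ p = w ^ (p - i) * w ^ i := by
        rw [← pow_add, Nat.sub_add_cancel (Finset.mem_Ico.1 hi).2.le]
      rw [hw', mul_pow]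
      field_simp
    rw [e]
    change t ^ p + (_ + (p : Ω) / w ^ (p - 1) * t - δ / w ^ p) = 0
    have hw' : w ^ p = w ^ (p - 1) * w := by rw [← pow_succ, Nat.sub_add_cancel hp.out.one_le]
    rw [mul_pow] at h
    field_simp
    rw [hw'] at h ⊢
    linear_combination (-(w ^ (p - 1))) * h
  have htO : t ∈ O := ValTower.mem_of_isIntegral O (fun x : R O F => x.2) ⟨G, hGm, hroot⟩
  refine ⟨⟨t, htO⟩, G, c, ξ, hGm, hGdeg, hroot, hat, rfl, rfl, ?_⟩
  have hz : ∀ i ∈ Finset.Ico 2 p, rho O F (ci i) = 0 := by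
    intro i hi
    refine Subtype.ext ?_
    change residue O (EtRam.inclOfComap O F.subtype (ci i)) = 0
    rw [residue_eq_zero_iff]
    refine (O.valuation_lt_one_iff _).2 ?_
    change O.valuation (((ci i : F) : Ω)) < 1
    simp only [ci, hi, dif_pos]
    exact hco i hi
  simp only [G, Polynomial.map_add, Polynomial.map_sub, Polynomial.map_sum, Polynomial.map_mul, Polynomial.map_pow,
    map_X, map_C]
  rw [Finset.sum_eq_zero fun i hi => by rw [hz i hi, map_zero, zero_mul], zero_add, add_sub_assoc]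

theorem adj_le_adj {F : Subfield Ω} {w a t : Ω} (hw : w ∈ F) (h : a = 1 + w * t) : adj F a ≤ adj F t :=
  adj_le (le_adj F t) (h ▸ add_mem (one_mem _) (mul_mem (le_adj F t hw) (mem_adj F t)))

/-- units close to `1` have unramified roots -/
theorem wu_root_le {p : ℕ} [hp : Fact p.Prime] [CharP (ResidueField O) p] {F : Subfield Ω} (hF : Cpl O F)
    {lam : Ω} (hl : Lam O p lam) (hlF : lam ∈ F) {δ a : Ω} (hδF : δ ∈ F)
    (hδ : O.valuation δ ≤ O.valuation lam ^ p) (ha : a ^ p = 1 + δ) : WU O F (adj F a) := by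
  obtain ⟨t, G, c, ξ, hG, -, ht, hat, hc, -, hmap⟩ :=
    exists_root_poly hlF hl.ne hl.lt hl.val_p.le hδF hδ ha
  refine (wu_of_separable hF t G hG ht ?_).mono (adj_le_adj hlF hat)
  haveI : CharP (kappa O F) p := (RingHom.charP_iff (kappa O F).subtype Subtype.val_injective p).2 inferInstance
  have hcu : rho O F c = -1 := by
    refine Subtype.ext ?_
    change residue O (EtRam.inclOfComap O F.subtype c) = -(1 : ResidueField O)
    rw [← map_one (residue O), ← map_neg]
    refine residue_eq_iff.2 ?_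
    change O.valuation (((c : F) : Ω) - -(1 : Ω)) < 1
    obtain ⟨u, hu, hpu⟩ := hl.eqn
    rw [hc, hpu, neg_div, mul_div_cancel_right₀ _ (pow_ne_zero _ hl.ne), show -u - -(1 : Ω) = -(u - 1) by ring,
      Valuation.map_neg]
    exact hu.trans_lt hl.lt
  rw [hmap, hcu, separable_def]
  have hd : derivative (X ^ p + C (-1 : kappa O F) * X - C (rho O F ξ)) = C (-1 : kappa O F) := by
    simp [derivative_X_pow, CharP.cast_eq_zero]
  rw [hd]
  exact isCoprime_one_right.of_isCoprime_of_dvd_right (isUnit_iff_dvd_one.1 (isUnit_C.2 isUnit_one.neg))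

/-- units with a top coefficient which is not a `p`-th power have weakly unramified roots -/
theorem wu_root_np {p : ℕ} [hp : Fact p.Prime] [CharP (ResidueField O) p] {F : Subfield Ω}
    {lam : Ω} (hl : Lam O p lam) {w δ a : Ω} (hwF : w ∈ F) (hw1 : O.valuation w < 1)
    (hlw : O.valuation lam < O.valuation w) (hδF : δ ∈ F) (ξ : O) (hξ : (ξ : Ω) = δ / w ^ p)
    (hnp : NP O p F (residue O ξ)) (ha : a ^ p = 1 + δ) : WU O F (adj F a) := by
  have hw0 : w ≠ 0 := fun h => by simp [h] at hlw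
  have hvw : 0 < O.valuation w := zero_lt_iff.2 ((Valuation.ne_zero_iff _).2 hw0)
  have hδ : O.valuation δ ≤ O.valuation w ^ p := by
    rw [← map_pow, ← div_le_one₀ (by rw [map_pow]; exact pow_pos hvw _), ← map_div₀, ← hξ]
    exact (O.valuation_le_one_iff _).2 ξ.2
  have hp1 : p - 1 ≠ 0 := by have := hp.out.two_le; omega
  have hpw : O.valuation (p : Ω) < O.valuation w ^ (p - 1) := by
    rw [hl.val_p]; exact pow_lt_pow_left₀ hlw zero_le hp1
  obtain ⟨t, G, c, ξ', hG, hdeg, ht, hat, hc, hξ', hmap⟩ := exists_root_poly hwF hw0 hw1 hpw.le hδF hδ ha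
  have hc0 : rho O F c = 0 := by
    refine Subtype.ext ?_
    change residue O (EtRam.inclOfComap O F.subtype c) = 0
    rw [residue_eq_zero_iff]
    refine (O.valuation_lt_one_iff _).2 ?_
    change O.valuation ((c : F) : Ω) < 1
    rw [hc, map_div₀, map_pow, div_lt_one₀ (pow_pos hvw _)]
    exact hpw
  rw [hc0, map_zero, zero_mul, add_zero] at hmap
  have hz : ((rho O F ξ' : kappa O F) : ResidueField O) = residue O ξ := by
    change residue O (EtRam.inclOfComap O F.subtype ξ') = residue O ξ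
    congr 1
    exact Subtype.ext (hξ'.trans hξ.symm)
  haveI : IsScalarTower (R O F) F Ω := IsScalarTower.of_algebraMap_eq fun _ => rfl
  refine (wu_of_residue t (G.map (algebraMap (R O F) F)) (hG.map _)
    (by rw [aeval_map_algebraMap]; exact ht) ?_).mono (adj_le_adj hwF hat)
  rw [hG.natDegree_map, hdeg]
  have hirr := X_pow_sub_C_irreducible_of_prime hp.out (a := rho O F ξ') fun b hb =>
    hnp b b.2 ((congrArg Subtype.val hb).trans hz)
  have hroot : aeval (residue O t) (X ^ p - C (rho O F ξ')) = 0 := by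
    rw [← hmap, aeval_def, eval₂_map, show (algebraMap (kappa O F) (ResidueField O)).comp (rho O F) =
      (residue O).comp (EtRam.inclOfComap O F.subtype) from rfl, ← Polynomial.hom_eval₂]
    have h1 : Polynomial.eval₂ (EtRam.inclOfComap O F.subtype) t G = 0 := by
      refine Subtype.ext ?_
      change O.subtype _ = (0 : Ω)
      rw [Polynomial.hom_eval₂]
      exact ht
    rw [h1, map_zero]
  rw [← minpoly.eq_of_irreducible_of_monic hirr hroot (monic_X_pow_sub_C _ hp.out.ne_zero),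
    natDegree_X_pow_sub_C]

end Groth.Agent.EtRamLib.Epp.Kum
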