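import Groth.Agent.EtRamLib.Epp.FullRes
import Groth.Agent.S7155
import Groth.Agent.S7156
import Groth.Agent.S7158

/-!
# Steps of degree `p` in characteristic `p`
-/

set_option autoImplicit false
universe u

open IsLocalRing

namespace Groth.Agent.EtRamLib.Epp

variable {Ω : Type u} [Field Ω] {O : ValuationSubring Ω}

/-- the standing hypotheses -/
structure Ctx (O : ValuationSubring Ω) (p : ℕ) (K L : Subfield Ω) : Prop where
  le : K ≤ L
  cplK : Cpl O K
  cplL : Cpl O L
  wu : WU O K L
  res : AlgClosedRes O K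
  core : CoreLE O p K L

/-- existence of a weak solution -/
def Goal (O : ValuationSubring Ω) (K M : Subfield Ω) : Prop :=
  ∃ K₁, Fin K K₁ ∧ WU O K₁ (M ⊔ K₁)

theorem Ctx.baseChange {p : ℕ} {K L K₁ : Subfield Ω} (h : Ctx O p K L) (hK₁ : Fin K K₁) :
    Ctx O p K₁ (L ⊔ K₁) := by
  obtain ⟨h1, h2, h3, h4⟩ := Epp.baseChange h.cplK h.cplL h.le h.wu h.res hK₁
  refine ⟨le_sup_right, h.cplK.of_fin hK₁, h.cplL.of_fin ?_, h1, h3, fun z hz hroot => ?_⟩
  · rw [sup_comm]; exact hK₁.sup h.le
  · rw [h2] at hz hroot; rw [h4]; exact h.core z hz hroot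

theorem Ctx.finExt {p : ℕ} [Fact p.Prime] [CharP (ResidueField O) p] {K L F : Subfield Ω} (h : Ctx O p K L)
    (hF : Fin L F) (hw : WU O K F) : Ctx O p K F :=
  ⟨h.le.trans hF.1, h.cplK, h.cplL.of_fin hF, hw, h.res, coreLE_of_fin h.cplL h.res h.core hF⟩

theorem goal_of_wu {K M : Subfield Ω} (hKM : K ≤ M) (h : WU O K M) : Goal O K M :=
  ⟨K, Fin.refl K, by rwa [sup_eq_left.mpr hKM]⟩

theorem isWeaklyUnramified_of_wu {K L : Subfield Ω} (hKL : K ≤ L) (hK : Cpl O K) (hw : WU O K L)
    [Algebra (R O K) (R O L)] (h : ∀ a : R O K, ((algebraMap (R O K) (R O L) a : L) : Ω) = ((a : K) : Ω)) :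
    EtRam.IsWeaklyUnramified (R O K) (R O L) := by
  haveI := hK.dvr
  refine le_antisymm ?_ fun y hy => ?_
  · rw [Ideal.map_le_iff_le_comap]
    intro a ha
    refine (val_lt_one_iff _).2 ?_
    rw [h]
    exact (val_lt_one_iff a).1 ha
  · obtain ⟨π, hπK, hπ0, hπ1, hmax, -⟩ := exists_unif hK
    obtain ⟨x, hx, hle, hlt⟩ := hw _ (y : L).2 ((val_lt_one_iff y).1 hy)
    have hdiv : O.valuation (((y : L) : Ω) / π) ≤ 1 := by
      rw [map_div₀, div_le_one₀ (zero_lt_iff.2 ((Valuation.ne_zero_iff _).2 hπ0))]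
      exact hle.trans (hmax x hx hlt)
    let πR : R O K := ⟨⟨π, hπK⟩, (O.valuation_le_one_iff _).1 hπ1.le⟩
    let c : R O L := ⟨⟨((y : L) : Ω) / π, div_mem (y : L).2 (hKL hπK)⟩, (O.valuation_le_one_iff _).1 hdiv⟩
    have e : y = algebraMap (R O K) (R O L) πR * c := by
      refine Subtype.ext (Subtype.ext ?_)
      change ((y : L) : Ω) = ((algebraMap (R O K) (R O L) πR : L) : Ω) * (((y : L) : Ω) / π)
      rw [h]
      exact (mul_div_cancel₀ _ hπ0).symm
    rw [e]
    exact Ideal.mul_mem_right _ _ (Ideal.mem_map_of_mem _ ((val_lt_one_iff πR).2 hπ1))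

theorem wu_of_isWeaklyUnramified {K₁ M : Subfield Ω} (hK₁ : Cpl O K₁) (hle : K₁ ≤ M)
    (f : K₁ →+* M) (hf : ∀ x : K₁, ((f x : M) : Ω) = x)
    (h : letI : Algebra ((R O M).comap f) (R O M) := (EtRam.inclOfComap (R O M) f).toAlgebra
      EtRam.IsWeaklyUnramified ((R O M).comap f) (R O M)) : WU O K₁ M := by
  intro y hy hv
  obtain ⟨π, hπK, hπ0, hπ1, hmax, -⟩ := exists_unif hK₁
  refine ⟨π, hπK, ?_, hπ1⟩
  let y' : R O M := ⟨⟨y, hy⟩, (O.valuation_le_one_iff _).1 hv.le⟩
  have hy' : y' ∈ maximalIdeal (R O M) := (val_lt_one_iff y').2 hv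
  rw [← h] at hy'
  have key : Ideal.map (EtRam.inclOfComap (R O M) f) (maximalIdeal ((R O M).comap f)) ≤
      Ideal.span {(⟨⟨π, hle hπK⟩, (O.valuation_le_one_iff _).1 hπ1.le⟩ : R O M)} := by
    rw [Ideal.map_le_iff_le_comap]
    intro a ha
    have ha1 : O.valuation ((a : K₁) : Ω) < 1 := by
      rw [← hf]
      exact (val_lt_one_iff (EtRam.inclOfComap (R O M) f a)).1 fun hu =>
        ha (isUnit_of_map_unit (EtRam.inclOfComap (R O M) f) a hu)
    have hd : O.valuation (((a : K₁) : Ω) / π) ≤ 1 := by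
      rw [map_div₀, div_le_one₀ (zero_lt_iff.2 ((Valuation.ne_zero_iff _).2 hπ0))]
      exact hmax _ (a : K₁).2 ha1
    rw [Ideal.mem_comap, Ideal.mem_span_singleton]
    refine ⟨⟨⟨((a : K₁) : Ω) / π, div_mem (hle (a : K₁).2) (hle hπK)⟩, (O.valuation_le_one_iff _).1 hd⟩, ?_⟩
    refine Subtype.ext (Subtype.ext ?_)
    change ((f (a : K₁) : M) : Ω) = π * (((a : K₁) : Ω) / π)
    rw [hf]
    exact (mul_div_cancel₀ _ hπ0).symm
  obtain ⟨c, hc⟩ := Ideal.mem_span_singleton.1 (key hy')
  have h2 : y = π * ((c : M) : Ω) := congrArg (fun w : R O M => ((w : M) : Ω)) hc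
  rw [h2, map_mul]
  exact mul_le_of_le_one_right' ((O.valuation_le_one_iff _).2 c.2)

theorem goal_of_isWeakSolution [IsAlgClosed Ω] {K M : Subfield Ω} (hK : Cpl O K) (hKM : K ≤ M)
    [Algebra K M] [Algebra (R O M) M] (hal : ∀ x : K, ((algebraMap K M x : M) : Ω) = x)
    (hRM : ∀ x : R O M, algebraMap (R O M) M x = (x : M))
    (K₁ : Type u) [Field K₁] [Algebra K K₁] [FiniteDimensional K K₁]
    (h : EtRam.IsWeakSolution (R O M) K M K₁) : Goal O K M := by
  haveI : Algebra.IsAlgebraic K K₁ := Algebra.IsAlgebraic.of_finite K K₁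
  let ι : K₁ →ₐ[K] Ω := IsAlgClosed.lift
  haveI : FiniteDimensional K ι.fieldRange := Module.Finite.of_surjective ι.rangeRestrict.toLinearMap
    ι.rangeRestrict_surjective
  have hfin : Fin K ι.fieldRange.toSubfield := Fin.of_finiteDimensional ι.fieldRange
  refine ⟨ι.fieldRange.toSubfield, hfin, ?_⟩
  let N : Subfield Ω := M ⊔ ι.fieldRange.toSubfield
  letI : Algebra M N := (Subfield.inclusion (le_sup_left : M ≤ N)).toAlgebra
  letI : Algebra K₁ N := ((ι.toRingHom).codRestrict N fun x =>
    (le_sup_right : ι.fieldRange.toSubfield ≤ N) ⟨x, rfl⟩).toAlgebra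
  letI : Algebra K N := (Subfield.inclusion (hKM.trans (le_sup_left : M ≤ N))).toAlgebra
  haveI : IsScalarTower K M N := IsScalarTower.of_algebraMap_eq fun x => Subtype.ext (hal x).symm
  haveI : IsScalarTower K K₁ N := IsScalarTower.of_algebraMap_eq fun x => Subtype.ext (ι.commutes x).symm
  haveI : IsScalarTower M N Ω := IsScalarTower.of_algebraMap_eq fun _ => rfl
  have hgen : Algebra.adjoin M (Set.range (algebraMap K₁ N)) = ⊤ := by
    refine Algebra.eq_top_iff.mpr fun z => ?_
    have halg : ∀ x ∈ Set.range ι, IsAlgebraic M x := by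
      rintro _ ⟨x, rfl⟩
      exact (isIntegral_of_le hKM (hfin.isIntegral ⟨x, rfl⟩)).isAlgebraic
    have hz : (z : Ω) ∈ Algebra.adjoin M (Set.range ι) := by
      rw [← IntermediateField.adjoin_toSubalgebra_of_isAlgebraic halg]
      have hle : N ≤ (IntermediateField.adjoin M (Set.range ι)).toSubfield :=
        sup_le (le_adjoin M _) fun x hx => IntermediateField.subset_adjoin _ _ hx
      exact hle z.2
    have e : Set.range ι = (IsScalarTower.toAlgHom M N Ω) '' Set.range (algebraMap K₁ N) := by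
      rw [← Set.range_comp]; rfl
    rw [e, Algebra.adjoin_image] at hz
    obtain ⟨y, hy, hyz⟩ := hz
    exact (Subtype.ext hyz : y = z) ▸ hy
  have hW : EtRam.Dominates (R O M) ((algebraMap M N).comp (algebraMap (R O M) M)) (R O N) := by
    refine ⟨fun a => ?_, fun a ha => ?_⟩
    · rw [RingHom.comp_apply, hRM]; exact a.2
    · rw [RingHom.comp_apply, hRM]
      refine ((R O N).valuation_lt_one_iff ⟨_, a.2⟩).1 ((val_lt_one_iff _).2 ?_)
      exact (val_lt_one_iff a).1 ha
  have hw := h N hgen (R O N) hW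
  intro y hy hv
  haveI hK₁d : IsDiscreteValuationRing (R O ι.fieldRange.toSubfield) := (hK.of_fin hfin).dvr
  obtain ⟨π, hπK, hπ0, hπ1, hmax, -⟩ := exists_unif (hK.of_fin hfin)
  refine ⟨π, hπK, ?_, hπ1⟩
  let y' : R O N := ⟨⟨y, hy⟩, (O.valuation_le_one_iff _).1 hv.le⟩
  have hy' : y' ∈ maximalIdeal (R O N) := (val_lt_one_iff y').2 hv
  rw [← hw] at hy'
  have key : Ideal.map (EtRam.inclOfComap (R O N) (algebraMap K₁ N)) (maximalIdeal ((R O N).comap (algebraMap K₁ N))) ≤
      Ideal.span {(⟨⟨π, (le_sup_right : _ ≤ N) hπK⟩, (O.valuation_le_one_iff _).1 hπ1.le⟩ : R O N)} := by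
    rw [Ideal.map_le_iff_le_comap]
    intro a ha
    have ha1 : O.valuation (ι (a : K₁)) < 1 :=
      (val_lt_one_iff (EtRam.inclOfComap (R O N) (algebraMap K₁ N) a)).1 fun hu =>
        ha (isUnit_of_map_unit (EtRam.inclOfComap (R O N) (algebraMap K₁ N)) a hu)
    have hd : O.valuation (ι (a : K₁) / π) ≤ 1 := by
      rw [map_div₀, div_le_one₀ (zero_lt_iff.2 ((Valuation.ne_zero_iff _).2 hπ0))]
      exact hmax _ ⟨_, rfl⟩ ha1
    rw [Ideal.mem_comap, Ideal.mem_span_singleton]
    refine ⟨⟨⟨ι (a : K₁) / π, div_mem ((le_sup_right : _ ≤ N) ⟨_, rfl⟩) ((le_sup_right : _ ≤ N) hπK)⟩,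
      (O.valuation_le_one_iff _).1 hd⟩, Subtype.ext (Subtype.ext (mul_div_cancel₀ _ hπ0).symm)⟩
  obtain ⟨c, hc⟩ := Ideal.mem_span_singleton.1 (key hy')
  have h2 : y = π * ((c : N) : Ω) := congrArg (fun w : R O N => ((w : N) : Ω)) hc
  rw [h2, map_mul]
  exact mul_le_of_le_one_right' ((O.valuation_le_one_iff _).2 c.2)

theorem isAlgClosed_residue [IsAlgClosed Ω] : IsAlgClosed (ResidueField O) := by
  refine IsAlgClosed.of_exists_root _ fun f hf hirr => ?_
  obtain ⟨F, hF, hFdeg, hFm⟩ := Polynomial.lifts_and_degree_eq_and_monic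
    ((Polynomial.lifts_iff_coeff_lifts f).2 fun i => residue_surjective (f.coeff i)) hf
  obtain ⟨r, hr⟩ := IsAlgClosed.exists_aeval_eq_zero Ω F (by
    rw [hFdeg]; exact (Polynomial.degree_pos_of_irreducible hirr).ne')
  have hrO : r ∈ O := ValTower.mem_of_isIntegral O (fun a => a.2) ⟨F, hFm, hr⟩
  refine ⟨residue O ⟨r, hrO⟩, ?_⟩
  have h0 : F.eval (⟨r, hrO⟩ : O) = 0 := Subtype.ext (by
    have h1 := Polynomial.eval₂_at_apply O.subtype (p := F) (⟨r, hrO⟩ : O)
    exact h1.symm.trans hr)
  rw [← hF, Polynomial.eval_map, Polynomial.eval₂_hom, h0, map_zero]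

theorem goal_adj_charP [IsAlgClosed Ω] {p : ℕ} [hp : Fact p.Prime] [CharP Ω p] [CharP (ResidueField O) p]
    {K L : Subfield Ω} (h : Ctx O p K L) (a : Ω) (ha : a ^ p ∈ L ∨ a ^ p - a ∈ L) : Goal O K (adj L a) := by
  classical
  by_cases haL : a ∈ L
  · exact goal_of_wu (h.le.trans (le_adj _ _)) (h.wu.mono (adj_le le_rfl haL))
  haveI := h.cplK.dvr
  haveI := h.cplL.dvr
  have hint : IsIntegral L a := by
    rcases ha with ha | ha
    · exact IsIntegral.of_pow hp.out.pos (isIntegral_algebraMap (x := (⟨_, ha⟩ : L)))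
    · refine ⟨Polynomial.X ^ p - Polynomial.X - Polynomial.C (⟨_, ha⟩ : L), ?_, ?_⟩
      · rw [sub_sub]
        exact Polynomial.monic_X_pow_sub ((Polynomial.degree_X_add_C _).trans_lt (by exact_mod_cast hp.out.one_lt))
      · simp only [Polynomial.eval₂_sub, Polynomial.eval₂_pow, Polynomial.eval₂_X, Polynomial.eval₂_C]
        exact sub_self _
  let M : Subfield Ω := adj L a
  haveI := (h.cplL.of_fin (fin_adj hint)).dvr
  letI : Algebra K L := (Subfield.inclusion h.le).toAlgebra
  letI : Algebra L M := (Subfield.inclusion (le_adj L a)).toAlgebra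
  letI : Algebra K M := (Subfield.inclusion (h.le.trans (le_adj L a))).toAlgebra
  haveI : IsScalarTower K L M := IsScalarTower.of_algebraMap_eq fun _ => rfl
  haveI : IsScalarTower L M Ω := IsScalarTower.of_algebraMap_eq fun _ => rfl
  letI : Algebra (R O K) (R O L) := (((Subfield.inclusion h.le).comp (R O K).subtype).codRestrict (R O L)
    fun x => x.2).toAlgebra
  letI : Algebra (R O L) (R O M) := (((Subfield.inclusion (le_adj L a)).comp (R O L).subtype).codRestrict (R O M)
    fun x => x.2).toAlgebra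
  letI : Algebra (R O K) (R O M) := (((Subfield.inclusion (h.le.trans (le_adj L a))).comp (R O K).subtype).codRestrict
    (R O M) fun x => x.2).toAlgebra
  haveI : IsScalarTower (R O K) (R O L) (R O M) := IsScalarTower.of_algebraMap_eq fun _ => rfl
  letI : Algebra (R O K) L := ((Subfield.inclusion h.le).comp (R O K).subtype).toAlgebra
  haveI : IsScalarTower (R O K) K L := IsScalarTower.of_algebraMap_eq fun _ => rfl
  haveI : IsScalarTower (R O K) (R O L) L := IsScalarTower.of_algebraMap_eq fun _ => rfl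
  letI : Algebra (R O L) M := ((Subfield.inclusion (le_adj L a)).comp (R O L).subtype).toAlgebra
  haveI : IsScalarTower (R O L) L M := IsScalarTower.of_algebraMap_eq fun _ => rfl
  haveI : IsScalarTower (R O L) (R O M) M := IsScalarTower.of_algebraMap_eq fun _ => rfl
  letI : Algebra (R O K) M := ((Subfield.inclusion (h.le.trans (le_adj L a))).comp (R O K).subtype).toAlgebra
  haveI : IsScalarTower (R O K) K M := IsScalarTower.of_algebraMap_eq fun _ => rfl
  haveI : IsScalarTower (R O K) (R O M) M := IsScalarTower.of_algebraMap_eq fun _ => rfl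
  haveI : IsLocalHom (algebraMap (R O K) (R O L)) := ⟨fun x hx =>
    isUnit_of_map_unit (EtRam.inclOfComap O K.subtype) x (hx.map (EtRam.inclOfComap O L.subtype))⟩
  haveI : IsLocalHom (algebraMap (R O L) (R O M)) := ⟨fun x hx =>
    isUnit_of_map_unit (EtRam.inclOfComap O L.subtype) x (hx.map (EtRam.inclOfComap O M.subtype))⟩
  have hAB : Function.Injective (algebraMap (R O K) (R O L)) := fun x y hxy =>
    Subtype.ext ((Subfield.inclusion h.le).injective (congrArg Subtype.val hxy))
  have hBC : Function.Injective (algebraMap (R O L) (R O M)) := fun x y hxy =>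
    Subtype.ext ((Subfield.inclusion (le_adj L a)).injective (congrArg Subtype.val hxy))
  have hwAB : EtRam.IsWeaklyUnramified (R O K) (R O L) := isWeaklyUnramified_of_wu h.le h.cplK h.wu fun _ => rfl
  haveI : CharP K p := (RingHom.charP_iff K.subtype Subtype.val_injective p).2 inferInstance
  haveI : CharP L p := (RingHom.charP_iff L.subtype Subtype.val_injective p).2 inferInstance
  let a' : M := ⟨a, mem_adj L a⟩
  have hgen : IntermediateField.adjoin L ({a'} : Set M) = ⊤ := by
    refine eq_top_iff.mpr fun z _ => ?_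
    have hz : (z : Ω) ∈ (IntermediateField.adjoin L ({a'} : Set M)).map (IsScalarTower.toAlgHom L M Ω) := by
      rw [IntermediateField.adjoin_map, Set.image_singleton]
      exact z.2
    obtain ⟨w, hw, hwz⟩ := hz
    exact (Subtype.ext hwz : w = z) ▸ hw
  rcases ha with ha | ha
  · have hirr := X_pow_sub_C_irreducible_of_prime hp.out (a := (⟨_, ha⟩ : L)) fun b hb => haL (by
      have h1 : (b : Ω) ^ p = a ^ p := congrArg Subtype.val hb
      exact frobenius_inj Ω p h1 ▸ b.2)
    have hroot : Polynomial.aeval a' (Polynomial.X ^ p - Polynomial.C (⟨_, ha⟩ : L)) = 0 := by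
      rw [map_sub, map_pow, Polynomial.aeval_X, Polynomial.aeval_C, sub_eq_zero]
      exact Subtype.ext rfl
    have hmin : minpoly L a' = Polynomial.X ^ p - Polynomial.C (⟨_, ha⟩ : L) :=
      (minpoly.eq_of_irreducible_of_monic hirr hroot (Polynomial.monic_X_pow_sub_C _ hp.out.ne_zero)).symm
    have hfr : Module.finrank L M = p := by
      rw [← IntermediateField.finrank_top', ← hgen,
        IntermediateField.adjoin.finrank ⟨_, Polynomial.monic_X_pow_sub_C _ hp.out.ne_zero, hroot⟩, hmin,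
        Polynomial.natDegree_X_pow_sub_C]
    haveI : ExpChar L p := ExpChar.prime hp.out
    haveI : IsPurelyInseparable L (IntermediateField.adjoin L ({a'} : Set M)) := by
      rw [IntermediateField.isPurelyInseparable_adjoin_simple_iff_natSepDegree_eq_one,
        minpoly.natSepDegree_eq_one_iff_pow_mem p]
      exact ⟨1, ⟨_, ha⟩, Subtype.ext (by rw [pow_one]; rfl)⟩
    haveI : IsPurelyInseparable L M := by
      have e := (IntermediateField.equivOfEq hgen).trans IntermediateField.topEquiv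
      exact AlgEquiv.isPurelyInseparable e
    haveI := h.cplL.complete
    obtain ⟨π, hπ⟩ := IsDiscreteValuationRing.exists_irreducible (R O K)
    rcases Groth.Agent.S7156.result p hp.out (R O K) (R O L) (R O M) K L M hAB hBC π hπ.maximalIdeal_eq
      (Nagata.CompleteLocal.isNagata (R O L)) hwAB hfr with h1 | ⟨c, hc, hcgen⟩ | ⟨K₁, _, _, hfr₁, -, -, -, -, -, hsol⟩
    · refine goal_of_wu (h.le.trans (le_adj L a)) fun y hy hv => ?_
      let y' : R O M := ⟨⟨y, hy⟩, (O.valuation_le_one_iff _).1 hv.le⟩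
      have hy' : y' ∈ maximalIdeal (R O M) := (val_lt_one_iff y').2 hv
      rw [← h1, hπ.maximalIdeal_eq, Ideal.map_span, Set.image_singleton, Ideal.mem_span_singleton] at hy'
      obtain ⟨d, hd⟩ := hy'
      refine ⟨((π : K) : Ω), (π : K).2, ?_, (val_lt_one_iff π).1 hπ.not_isUnit⟩
      have h2 : y = ((π : K) : Ω) * ((d : M) : Ω) := congrArg (fun w : R O M => ((w : M) : Ω)) hd
      rw [h2, map_mul]
      exact mul_le_of_le_one_right' ((O.valuation_le_one_iff _).2 d.2)
    · have hcp : ((c : M) : Ω) ^ p = ((π : K) : Ω) := congrArg (fun w : R O M => ((w : M) : Ω)) hc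
      have hci : IsIntegral K ((c : M) : Ω) :=
        IsIntegral.of_pow hp.out.pos (hcp ▸ isIntegral_algebraMap (x := (π : K)))
      refine ⟨adj K ((c : M) : Ω), fin_adj hci, ?_⟩
      rw [sup_eq_left.mpr (adj_le (h.le.trans (le_adj L a)) (c : M).2)]
      intro y hy hv
      refine ⟨((c : M) : Ω), mem_adj _ _, ?_, ?_⟩
      · let y' : R O M := ⟨⟨y, hy⟩, (O.valuation_le_one_iff _).1 hv.le⟩
        have hyc : y' ∈ Algebra.adjoin (R O L) ({c} : Set (R O M)) := hcgen ▸ Algebra.mem_top
        rw [Algebra.adjoin_singleton_eq_range_aeval] at hyc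
        obtain ⟨f, hf⟩ := hyc
        have hf' : Polynomial.aeval c f = y' := hf
        set b := f.coeff 0
        obtain ⟨g, hg⟩ : ∃ g : R O M, y' = algebraMap (R O L) (R O M) b + c * g := by
          refine ⟨Polynomial.aeval c f.divX, ?_⟩
          conv_lhs => rw [← hf', ← Polynomial.X_mul_divX_add f]
          rw [map_add, map_mul, Polynomial.aeval_X, Polynomial.aeval_C, add_comm]
        have hg' : y = ((b : L) : Ω) + ((c : M) : Ω) * ((g : M) : Ω) :=
          congrArg (fun w : R O M => ((w : M) : Ω)) hg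
        have hc1 : O.valuation ((c : M) : Ω) < 1 := by
          refine not_le.1 fun hle => ?_
          have : O.valuation ((π : K) : Ω) < 1 := (val_lt_one_iff π).1 hπ.not_isUnit
          rw [← hcp, map_pow] at this
          exact absurd (one_le_pow₀ hle) (not_le.2 this)
        have hcg : O.valuation (((c : M) : Ω) * ((g : M) : Ω)) ≤ O.valuation ((c : M) : Ω) := by
          rw [map_mul]; exact mul_le_of_le_one_right' ((O.valuation_le_one_iff _).2 g.2)
        have hb1 : O.valuation ((b : L) : Ω) < 1 := by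
          have : ((b : L) : Ω) = y - ((c : M) : Ω) * ((g : M) : Ω) := by rw [hg']; ring
          rw [this]
          exact (Valuation.map_sub _ _ _).trans_lt (max_lt hv (hcg.trans_lt hc1))
        obtain ⟨x, hx, hbx, hx1⟩ := h.wu _ (b : L).2 hb1
        obtain ⟨π', hπ'K, hπ'0, hπ'1, hmax, -⟩ := exists_unif h.cplK
        have hxc : O.valuation x ≤ O.valuation ((c : M) : Ω) := by
          have h3 : O.valuation x ≤ O.valuation ((π : K) : Ω) := by
            have hxm : (⟨⟨x, hx⟩, (O.valuation_le_one_iff _).1 hx1.le⟩ : R O K) ∈ maximalIdeal (R O K) :=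
              (val_lt_one_iff _).2 hx1
            rw [hπ.maximalIdeal_eq, Ideal.mem_span_singleton] at hxm
            obtain ⟨d, hd⟩ := hxm
            have h5 : x = ((π : K) : Ω) * ((d : K) : Ω) := congrArg (fun w : R O K => ((w : K) : Ω)) hd
            rw [h5, map_mul]
            exact mul_le_of_le_one_right' ((O.valuation_le_one_iff _).2 d.2)
          rw [← hcp, map_pow] at h3
          exact h3.trans (pow_le_of_le_one zero_le hc1.le hp.out.ne_zero)
        rw [hg']
        exact (Valuation.map_add _ _ _).trans (max_le (hbx.trans hxc) hcg)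
      · refine not_le.1 fun hle => ?_
        have : O.valuation ((π : K) : Ω) < 1 := (val_lt_one_iff π).1 hπ.not_isUnit
        rw [← hcp, map_pow] at this
        exact absurd (one_le_pow₀ hle) (not_le.2 this)
    · haveI : FiniteDimensional K K₁ := Module.finite_of_finrank_pos (hfr₁ ▸ hp.out.pos)
      exact goal_of_isWeakSolution h.cplK (h.le.trans (le_adj L a)) (fun _ => rfl) (fun _ => rfl) K₁ hsol
  · have hz : a' ^ p - a' = algebraMap L M (⟨_, ha⟩ : L) := Subtype.ext rfl
    haveI := Groth.Agent.S7158.isGalois_AS p hp.out (⟨_, ha⟩ : L) a' hz hgen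
    have hfr : Module.finrank L M = p := by
      refine (Groth.Agent.S7158.finrank_AS p hp.out (⟨_, ha⟩ : L) a' hz hgen).resolve_left fun h1 => haL ?_
      haveI := Groth.Agent.S7158.finiteDimensional_AS p hp.out (⟨_, ha⟩ : L) a' hz hgen
      have h2 : IntermediateField.adjoin L ({a'} : Set M) = ⊥ :=
        IntermediateField.finrank_eq_one_iff.mp (by rw [hgen, IntermediateField.finrank_top', h1])
      obtain ⟨l, hl⟩ := IntermediateField.mem_bot.mp (h2 ▸ IntermediateField.mem_adjoin_simple_self L a' : a' ∈ (⊥ : IntermediateField L M))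
      have h4 : (l : Ω) = a := congrArg Subtype.val hl
      exact h4 ▸ l.2
    obtain ⟨K₁, _, _, hfd, -, -, hsol⟩ := Groth.Agent.S7155.result p hp.out (R O K) (R O L) (R O M) K L M hAB hBC
      hwAB hfr fun z => by
        let e := ResidueField.map (EtRam.inclOfComap O L.subtype)
        constructor
        · intro hroots
          obtain ⟨x, hx, hxz⟩ := mem_kappa.mp (h.core (e z) ⟨z, rfl⟩ fun n => by
            obtain ⟨y, hy⟩ := hroots n
            exact ⟨e y, ⟨y, rfl⟩, by rw [← map_pow, hy]⟩)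
          refine ⟨residue _ ⟨⟨x, hx⟩, x.2⟩, e.injective ?_⟩
          rw [← hxz]; rfl
        · rintro ⟨w, rfl⟩ n
          haveI : CharP (ResidueField (R O K)) p :=
            (RingHom.charP_iff (ResidueField.map (EtRam.inclOfComap O K.subtype))
              (RingHom.injective _) p).2 inferInstance
          let eK := ResidueField.map (EtRam.inclOfComap O K.subtype)
          obtain ⟨r, hr⟩ : ∃ r : ResidueField O, r ^ p ^ n = eK w ∧ r ∈ kappa O K := by
            haveI := isAlgClosed_residue (O := O)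
            obtain ⟨r, hr⟩ := IsAlgClosed.exists_pow_nat_eq (eK w) (pow_pos hp.out.pos n)
            refine ⟨r, hr, h.res r (IsIntegral.of_pow (pow_pos hp.out.pos n) ?_)⟩
            rw [hr]
            exact isIntegral_algebraMap (x := (⟨eK w, ⟨w, rfl⟩⟩ : kappa O K))
          obtain ⟨x, hx, hxr⟩ := mem_kappa.mp hr.2
          refine ⟨residue _ ⟨⟨x, h.le hx⟩, x.2⟩, e.injective ?_⟩
          rw [map_pow]
          change residue O x ^ p ^ n = _
          rw [hxr, hr.1]
          obtain ⟨w, rfl⟩ := residue_surjective w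
          rfl
    haveI := hfd
    exact goal_of_isWeakSolution h.cplK (h.le.trans (le_adj L a)) (fun _ => rfl) (fun _ => rfl) K₁ hsol

end Groth.Agent.EtRamLib.Epp
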