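import Groth.Agent.EtRamLib.Epp.Chain
import Groth.Agent.EtRamLib.Epp.KummerLeaf

/-!
# Elimination of ramification for complete discretely valued fields
-/

set_option autoImplicit false
universe u

open IsLocalRing Polynomial

namespace Groth.Agent.EtRamLib.Epp

variable {Ω : Type u} [Field Ω] {O : ValuationSubring Ω}

theorem adj_root_of_unity [IsAlgClosed Ω] [CharZero Ω] {p : ℕ} [hp : Fact p.Prime] (K : Subfield Ω) :
    ∃ ζ : Ω, IsPrimitiveRoot ζ p ∧ Fin K (adj K ζ) := by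
  haveI : NeZero ((p : ℕ) : Ω) := ⟨Nat.cast_ne_zero.2 hp.out.ne_zero⟩
  obtain ⟨ζ, hζ⟩ := HasEnoughRootsOfUnity.exists_primitiveRoot Ω p
  refine ⟨ζ, hζ, fin_adj (IsIntegral.of_pow hp.out.pos ?_)⟩
  rw [hζ.pow_eq_one]
  exact isIntegral_one

/-- weak solutions for finite extensions -/
theorem goal_main [IsAlgClosed Ω] {p : ℕ} [hp : Fact p.Prime] [CharP (ResidueField O) p]
    (hchar : CharP Ω p ∨ CharZero Ω) {K L M : Subfield Ω} (h : Ctx O p K L) (hM : Fin L M) : Goal O K M := by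
  classical
  obtain ⟨K₀, hK₀, hroot, hleaf⟩ : ∃ K₀, Fin K K₀ ∧ (CharP Ω p ∨ (CharZero Ω ∧ ∃ ζ ∈ K₀, IsPrimitiveRoot ζ p)) ∧
      LeafOK O p K₀ := by
    rcases hchar with hc | hc
    · haveI := hc
      exact ⟨K, Fin.refl K, Or.inl hc, fun K' L' a _ hC ha => goal_adj_charP hC a (ha.imp id And.right)⟩
    · haveI := hc
      obtain ⟨ζ, hζ, hfin⟩ := adj_root_of_unity (Ω := Ω) (p := p) K
      refine ⟨adj K ζ, hfin, Or.inr ⟨hc, ζ, mem_adj K ζ, hζ⟩, fun K' L' a hle hC ha => ?_⟩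
      refine Kum.goal_adj_kummer hC (hle (mem_adj K ζ)) hζ a (ha.resolve_right fun h' => ?_)
      haveI := h'.1
      exact hp.out.ne_zero (Nat.cast_eq_zero.1 (CharP.cast_eq_zero Ω p))
  have hC₀ := h.baseChange hK₀
  have hM₀ : Fin (L ⊔ K₀) (M ⊔ (L ⊔ K₀)) := hM.sup le_sup_left
  have hroot₀ : CharP Ω p ∨ (CharZero Ω ∧ ∃ ζ ∈ L ⊔ K₀, IsPrimitiveRoot ζ p) :=
    hroot.imp id fun h' => ⟨h'.1, h'.2.imp fun ζ hζ => ⟨(le_sup_right : K₀ ≤ L ⊔ K₀) hζ.1, hζ.2⟩⟩
  obtain ⟨L₁, N, hL₁, hd, hchain, hMN⟩ := exists_tame_chain hM₀ hroot₀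
  obtain ⟨K₁, hK₁, hw₁⟩ := goal_tame hC₀ hL₁ hd
  have hfin : Fin (L ⊔ K₀ ⊔ K₁) (L₁ ⊔ K₁) := by
    have h1 := hL₁.sup (le_sup_left : L ⊔ K₀ ≤ L ⊔ K₀ ⊔ K₁)
    rwa [← sup_assoc L₁, sup_eq_left.mpr hL₁.1] at h1
  have hC₁ := (hC₀.baseChange hK₁).finExt hfin hw₁
  obtain ⟨K₂, hK₂, hw₂⟩ := goal_of_chain hleaf hchain K₁ K₁ hK₁.1 hC₁
  refine ⟨K₂, hK₀.trans (hK₁.trans hK₂), hw₂.mono (sup_le ?_ le_sup_right)⟩
  exact ((le_sup_left : M ≤ M ⊔ (L ⊔ K₀)).trans hMN).trans ((le_sup_left).trans le_sup_left)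

/-- weak solutions persist in larger finite extensions -/
theorem wu_enlarge {p : ℕ} {K L M K₂ K₃ : Subfield Ω} (h : Ctx O p K L) (hM : Fin L M) (hK₂ : Fin K K₂)
    (hw : WU O K₂ (M ⊔ K₂)) (h₂₃ : Fin K₂ K₃) : WU O K₃ (M ⊔ K₃) := by
  have hC := h.baseChange hK₂
  have hcpl : Cpl O (M ⊔ K₂) := by
    refine hC.cplL.of_fin ?_
    have h1 := hM.sup (le_sup_left : L ≤ L ⊔ K₂)
    rwa [← sup_assoc, sup_eq_left.mpr hM.1] at h1
  have h1 := (Epp.baseChange hC.cplK hcpl le_sup_right hw hC.res h₂₃).1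
  rwa [sup_assoc, sup_eq_right.mpr h₂₃.1] at h1

section Image

variable {R F : Type u} [CommRing R] [IsDomain R] [IsDiscreteValuationRing R] [Field F] [Algebra R F]
  [IsFractionRing R F] (f : F →+* Ω)

theorem val_lt_one_of_mem (hO : ∀ r : R, f (algebraMap R F r) ∈ O)
    (hm : ∀ r ∈ maximalIdeal R, O.valuation (f (algebraMap R F r)) < 1) {x : F} (hx : f x ∈ O) :
    ∃ r : R, algebraMap R F r = x := by
  rcases ValuationRing.isInteger_or_isInteger R x with ⟨r, hr⟩ | ⟨r, hr⟩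
  · exact ⟨r, hr⟩
  · by_cases hu : IsUnit r
    · obtain ⟨v, rfl⟩ := hu
      refine ⟨(↑v⁻¹ : R), ?_⟩
      rw [map_units_inv (algebraMap R F), hr, inv_inv]
    · rcases eq_or_ne x 0 with rfl | hx0
      · exact ⟨0, map_zero _⟩
      exfalso
      have h1 := hm r hu
      rw [hr] at h1
      have h2 : O.valuation (f x) * O.valuation (f x⁻¹) = 1 := by
        rw [← map_mul, ← map_mul, mul_inv_cancel₀ hx0, map_one, map_one]
      exact absurd h2 (ne_of_lt ((mul_le_of_le_one_left' ((O.valuation_le_one_iff _).2 hx)).trans_lt h1))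

/-- the map onto the valuation ring of the image -/
noncomputable def imageHom (hO : ∀ r : R, f (algebraMap R F r) ∈ O) : R →+* Epp.R O f.fieldRange :=
  ((f.rangeRestrictField).comp (algebraMap R F)).codRestrict (Epp.R O f.fieldRange) hO

theorem imageHom_bijective (hO : ∀ r : R, f (algebraMap R F r) ∈ O)
    (hm : ∀ r ∈ maximalIdeal R, O.valuation (f (algebraMap R F r)) < 1) :
    Function.Bijective (imageHom f hO) := by
  refine ⟨fun a b hab => IsFractionRing.injective R F (f.injective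
    (congrArg (fun w : Epp.R O f.fieldRange => ((w : f.fieldRange) : Ω)) hab)), ?_⟩
  rintro ⟨⟨y, x, rfl⟩, hxO⟩
  obtain ⟨r, rfl⟩ := val_lt_one_of_mem f hO hm hxO
  exact ⟨r, rfl⟩

theorem cpl_image [IsAdicComplete (maximalIdeal R) R] (hO : ∀ r : R, f (algebraMap R F r) ∈ O)
    (hm : ∀ r ∈ maximalIdeal R, O.valuation (f (algebraMap R F r)) < 1) : Cpl O f.fieldRange := by
  let e : R ≃+* Epp.R O f.fieldRange := RingEquiv.ofBijective _ (imageHom_bijective f hO hm)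
  refine ⟨IsDiscreteValuationRing.RingEquivClass.isDiscreteValuationRing e, ?_⟩
  rw [show maximalIdeal (Epp.R O f.fieldRange) = (maximalIdeal R).map e from
    (eq_maximalIdeal (Ideal.map_isMaximal_of_equiv e)).symm]
  exact (IsAdicComplete.congr_ringEquiv (maximalIdeal R) e).2 inferInstance

/-- the reduction map of the image -/
noncomputable def resHom (hO : ∀ r : R, f (algebraMap R F r) ∈ O) : R →+* ResidueField O :=
  (residue O).comp ((EtRam.inclOfComap O f.fieldRange.subtype).comp (imageHom f hO))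

theorem isLocalHom_toO (hO : ∀ r : R, f (algebraMap R F r) ∈ O)
    (hm : ∀ r ∈ maximalIdeal R, O.valuation (f (algebraMap R F r)) < 1) :
    IsLocalHom ((f.comp (algebraMap R F)).codRestrict O hO) :=
  ⟨fun r hr => by_contra fun hn => ((O.valuation_lt_one_iff _).2 (hm r hn) : _) hr⟩

/-- the residue map of the image -/
noncomputable def kapHom (hO : ∀ r : R, f (algebraMap R F r) ∈ O)
    (hm : ∀ r ∈ maximalIdeal R, O.valuation (f (algebraMap R F r)) < 1) : ResidueField R →+* ResidueField O :=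
  haveI := isLocalHom_toO f hO hm
  ResidueField.map ((f.comp (algebraMap R F)).codRestrict O hO)

theorem fieldRange_kapHom (hO : ∀ r : R, f (algebraMap R F r) ∈ O)
    (hm : ∀ r ∈ maximalIdeal R, O.valuation (f (algebraMap R F r)) < 1) :
    (kapHom f hO hm).fieldRange = kappa O f.fieldRange := by
  ext z
  rw [mem_kappa]
  constructor
  · rintro ⟨w, rfl⟩
    obtain ⟨r, rfl⟩ := residue_surjective w
    exact ⟨⟨_, hO r⟩, ⟨_, rfl⟩, rfl⟩
  · rintro ⟨⟨x, hxO⟩, ⟨y, rfl⟩, rfl⟩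
    obtain ⟨r, rfl⟩ := val_lt_one_of_mem f hO hm hxO
    exact ⟨residue R r, rfl⟩

end Image

theorem mem_of_isIntegral_algClosed {k κ : Type u} [Field k] [Field κ] [IsAlgClosed k] (φ : k →+* κ) {z : κ}
    (hz : IsIntegral φ.fieldRange z) : z ∈ φ.fieldRange := by
  letI := φ.toAlgebra
  let e : k ≃+* φ.fieldRange := RingEquiv.ofBijective φ.rangeRestrictField
    ⟨fun a b h => φ.injective (congrArg Subtype.val h), fun ⟨_, x, hx⟩ => ⟨x, Subtype.ext hx⟩⟩
  obtain ⟨g, hg, hgz⟩ := hz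
  have hzk : IsIntegral k z := by
    refine ⟨g.map e.symm.toRingHom, hg.map _, ?_⟩
    rw [eval₂_map]
    rw [show (algebraMap k κ).comp e.symm.toRingHom = algebraMap φ.fieldRange κ from
      RingHom.ext fun w => congrArg Subtype.val (e.apply_symm_apply w)]
    exact hgz
  obtain ⟨w, hw⟩ := (minpoly.degree_eq_one_iff).1
    (IsAlgClosed.degree_eq_one_of_irreducible k (minpoly.irreducible hzk))
  exact ⟨w, hw⟩

end Groth.Agent.EtRamLib.Epp
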