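import Groth.Agent.EtRamLib.Epp.Unramified
import Groth.Agent.EtRamLib.Epp.LeafCharP
import Groth.Agent.EtRamLib.SepDescentSolution

/-!
# Composing weak solutions along towers; tame extensions
-/

set_option autoImplicit false
universe u

open IsLocalRing Polynomial

namespace Groth.Agent.EtRamLib.Epp

variable {Ω : Type u} [Field Ω] {O : ValuationSubring Ω}

/-- a step of degree dividing `p` -/
def Step (p : ℕ) (F F' : Subfield Ω) : Prop :=
  ∃ a, F' = adj F a ∧ (a ^ p ∈ F ∨ (CharP Ω p ∧ a ^ p - a ∈ F))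

/-- weak solutions exist for all steps above `K₀` -/
def LeafOK (O : ValuationSubring Ω) (p : ℕ) (K₀ : Subfield Ω) : Prop :=
  ∀ (K L : Subfield Ω) (a : Ω), K₀ ≤ K → Ctx O p K L → (a ^ p ∈ L ∨ (CharP Ω p ∧ a ^ p - a ∈ L)) →
    Goal O K (adj L a)

theorem isIntegral_step {p : ℕ} [hp : Fact p.Prime] {L : Subfield Ω} {a : Ω}
    (ha : a ^ p ∈ L ∨ (CharP Ω p ∧ a ^ p - a ∈ L)) : IsIntegral L a := by
  rcases ha with ha | ⟨-, ha⟩
  · exact IsIntegral.of_pow hp.out.pos (isIntegral_algebraMap (x := (⟨_, ha⟩ : L)))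
  · refine ⟨X ^ p - X - C (⟨_, ha⟩ : L), ?_, ?_⟩
    · rw [sub_sub]
      exact monic_X_pow_sub ((degree_X_add_C _).trans_lt (by exact_mod_cast hp.out.one_lt))
    · simp only [eval₂_sub, eval₂_pow, eval₂_X, eval₂_C]
      exact sub_self _

/-- weak solutions for a chain of steps -/
theorem goal_of_chain {p : ℕ} [Fact p.Prime] [CharP (ResidueField O) p] {K₀ : Subfield Ω}
    (hleaf : LeafOK O p K₀) {F M : Subfield Ω} (h : Relation.ReflTransGen (Step (Ω := Ω) p) F M) :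
    ∀ (K Z : Subfield Ω), K₀ ≤ K → Ctx O p K (F ⊔ Z) → Goal O K (M ⊔ Z) := by
  induction h using Relation.ReflTransGen.head_induction_on with
  | refl => intro K Z _ hC; exact goal_of_wu hC.le hC.wu
  | @head F F₁ hstep _ ih =>
    intro K Z hK hC
    obtain ⟨a, rfl, ha⟩ := hstep
    have ha' : a ^ p ∈ F ⊔ Z ∨ (CharP Ω p ∧ a ^ p - a ∈ F ⊔ Z) :=
      ha.imp (fun h => (le_sup_left : F ≤ F ⊔ Z) h) (fun h => ⟨h.1, (le_sup_left : F ≤ F ⊔ Z) h.2⟩)
    obtain ⟨K₁, hK₁, hw⟩ := hleaf K (F ⊔ Z) a hK hC ha'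
    rw [← adj_sup] at hw
    have hfin : Fin (F ⊔ Z ⊔ K₁) (adj F a ⊔ Z ⊔ K₁) := by
      rw [adj_sup, adj_sup]
      exact fin_adj (isIntegral_of_le le_sup_left (isIntegral_step ha'))
    have hC₁ := (hC.baseChange hK₁).finExt hfin hw
    rw [sup_assoc] at hC₁
    obtain ⟨K₂, hK₂, hw₂⟩ := ih K₁ (Z ⊔ K₁) (hK.trans hK₁.1) hC₁
    refine ⟨K₂, hK₁.trans hK₂, ?_⟩
    have e : M ⊔ (Z ⊔ K₁) ⊔ K₂ = M ⊔ Z ⊔ K₂ := by
      rw [← sup_assoc, sup_assoc (M ⊔ Z), sup_eq_right.mpr hK₂.1]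
    rwa [e] at hw₂

theorem val_pow_inj {x y : Ω} {n : ℕ} (hn : n ≠ 0) (h : O.valuation x ^ n = O.valuation y ^ n) :
    O.valuation x = O.valuation y :=
  le_antisymm ((pow_le_pow_iff_left₀ zero_le zero_le hn).1 h.le) ((pow_le_pow_iff_left₀ zero_le zero_le hn).1 h.ge)

/-- tame extensions have weak solutions -/
theorem goal_tame [IsAlgClosed Ω] {p : ℕ} [hp : Fact p.Prime] [CharP (ResidueField O) p] {K L F : Subfield Ω}
    (h : Ctx O p K L) (hF : Fin L F) (hd : ¬ p ∣ Module.finrank L (Subfield.extendScalars hF.1)) :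
    Goal O K F := by
  classical
  have hFc := h.cplL.of_fin hF
  haveI := h.cplK.dvr
  haveI := h.cplL.dvr
  haveI := hFc.dvr
  letI : Algebra L F := (Subfield.inclusion hF.1).toAlgebra
  letI : Algebra (R O L) (R O F) := (((Subfield.inclusion hF.1).comp (R O L).subtype).codRestrict (R O F)
    fun x => x.2).toAlgebra
  haveI : Module.Finite (R O L) (R O F) := (ext h.cplL hF).2.2
  haveI : IsLocalHom (algebraMap (R O L) (R O F)) := ⟨fun x hx =>
    isUnit_of_map_unit (EtRam.inclOfComap O L.subtype) x (hx.map (EtRam.inclOfComap O F.subtype))⟩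
  have hinj : Function.Injective (algebraMap (R O L) (R O F)) := fun x y hxy =>
    Subtype.ext ((Subfield.inclusion hF.1).injective (congrArg Subtype.val hxy))
  have hef := SepDescentSolution.e_mul_f (M := L) (M₂ := F) (R O L) (R O F) fun _ => rfl
  obtain ⟨π, hπK, hπ0, hπ1, hπmax, -⟩ := exists_unif h.cplK
  let πL : R O L := ⟨⟨π, h.le hπK⟩, (O.valuation_le_one_iff _).1 hπ1.le⟩
  have hπL : Irreducible πL := by
    rw [IsDiscreteValuationRing.irreducible_iff_uniformizer]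
    refine le_antisymm (fun y hy => ?_) ?_
    · obtain ⟨x, hx, hle, hlt⟩ := h.wu _ (y : L).2 ((val_lt_one_iff y).1 hy)
      have hdiv : O.valuation (((y : L) : Ω) / π) ≤ 1 := by
        rw [map_div₀, div_le_one₀ (zero_lt_iff.2 ((Valuation.ne_zero_iff _).2 hπ0))]
        exact hle.trans (hπmax x hx hlt)
      rw [Ideal.mem_span_singleton]
      exact ⟨⟨⟨((y : L) : Ω) / π, div_mem (y : L).2 (h.le hπK)⟩, (O.valuation_le_one_iff _).1 hdiv⟩,
        Subtype.ext (Subtype.ext (mul_div_cancel₀ _ hπ0).symm)⟩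
    · rw [Ideal.span_le, Set.singleton_subset_iff]
      exact (val_lt_one_iff πL).2 hπ1
  obtain ⟨ϖ, hϖ⟩ := IsDiscreteValuationRing.exists_irreducible (R O F)
  obtain ⟨e, u, he0, hu, hr⟩ := exists_ramificationIdx hinj hπL hϖ
  have hep : ¬ p ∣ e := fun hdiv => hd (by
    have e1 : Module.finrank L F = Module.finrank L (Subfield.extendScalars hF.1) := rfl
    rw [← e1, ← hef, hr]
    exact dvd_mul_of_dvd_left hdiv _)
  have hu' : π = (((u : R O F) : F) : Ω) * ((ϖ : F) : Ω) ^ e := congrArg (fun w : R O F => ((w : F) : Ω)) hu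
  have hu1 : O.valuation (((u : R O F) : F) : Ω) = 1 :=
    le_antisymm ((O.valuation_le_one_iff _).2 (u : R O F).2) (not_lt.1 fun hlt => ((val_lt_one_iff _).2 hlt) u.isUnit)
  have he : e ≠ 0 := fun h0 => hep (h0 ▸ dvd_zero p)
  obtain ⟨x, hx⟩ := IsAlgClosed.exists_pow_nat_eq π (Nat.pos_of_ne_zero he)
  have hxi : IsIntegral K x := IsIntegral.of_pow (Nat.pos_of_ne_zero he) (hx ▸ isIntegral_algebraMap (x := (⟨π, hπK⟩ : K)))
  have hx0 : x ≠ 0 := fun h0 => hπ0 (by rw [← hx, h0, zero_pow he])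
  have hvx : O.valuation x = O.valuation ((ϖ : F) : Ω) := by
    refine val_pow_inj he ?_
    rw [← map_pow, hx, hu', map_mul, hu1, one_mul, map_pow]
  let K₁ := adj K x
  refine ⟨K₁, fin_adj hxi, ?_⟩
  have hϖ0 : ((ϖ : F) : Ω) ≠ 0 := fun h0 => hϖ.ne_zero (Subtype.ext (Subtype.ext h0))
  let t : O := ⟨((ϖ : F) : Ω) / x, (O.valuation_le_one_iff _).1 (by
    rw [map_div₀, hvx, div_self ((Valuation.ne_zero_iff _).2 hϖ0)])⟩
  let G : (R O F)[X] := X ^ e - C ((↑u⁻¹ : R O F))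
  have hG : G.Monic := monic_X_pow_sub_C _ he
  have htG : aeval (t : Ω) G = 0 := by
    rw [map_sub, map_pow, aeval_X, aeval_C, sub_eq_zero]
    change (((ϖ : F) : Ω) / x) ^ e = (((↑u⁻¹ : R O F) : F) : Ω)
    have h1 : (((↑u⁻¹ : R O F) : F) : Ω) * (((u : R O F) : F) : Ω) = 1 :=
      congrArg (fun w : R O F => ((w : F) : Ω)) u.inv_mul
    rw [div_pow, hx, hu', div_eq_iff (mul_ne_zero (fun h0 => by rw [h0, mul_zero] at h1; exact zero_ne_one h1)
      (pow_ne_zero _ hϖ0)), ← mul_assoc, h1, one_mul]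
  have hsep : (G.map (rho O F)).Separable := by
    rw [Polynomial.map_sub, Polynomial.map_pow, map_X, map_C]
    refine separable_X_pow_sub_C _ ?_ fun h0 => ?_
    · intro h0
      haveI : CharP (kappa O F) p := (RingHom.charP_iff (kappa O F).subtype Subtype.val_injective p).2 inferInstance
      exact hep ((CharP.cast_eq_zero_iff (kappa O F) p e).1 h0)
    · have h1 : rho O F (↑u⁻¹ : R O F) * rho O F (u : R O F) = 1 := by rw [← map_mul, Units.inv_mul, map_one]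
      rw [h0, zero_mul] at h1
      exact zero_ne_one h1
  have hw := wu_of_separable hFc t G hG htG hsep
  have hle : F ⊔ K₁ ≤ adj F (t : Ω) := by
    refine sup_le (le_adj _ _) (adj_le ((h.le.trans hF.1).trans (le_adj _ _)) ?_)
    have e1 : x = ((ϖ : F) : Ω) / (t : Ω) := by
      change x = ((ϖ : F) : Ω) / (((ϖ : F) : Ω) / x)
      rw [div_div_eq_mul_div, mul_div_cancel_left₀ x hϖ0]
    rw [e1]
    exact div_mem ((le_adj F (t : Ω)) (ϖ : F).2) (mem_adj _ _)
  intro y hy hv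
  obtain ⟨x', hx', hle', hlt'⟩ := hw y (hle hy) hv
  refine ⟨x, mem_adj K x, hle'.trans ?_, ?_⟩
  · rw [hvx]
    have hxm : (⟨⟨x', hx'⟩, (O.valuation_le_one_iff _).1 hlt'.le⟩ : R O F) ∈ maximalIdeal (R O F) :=
      (val_lt_one_iff _).2 hlt'
    rw [hϖ.maximalIdeal_eq, Ideal.mem_span_singleton] at hxm
    obtain ⟨d, hd⟩ := hxm
    have h5 : x' = ((ϖ : F) : Ω) * ((d : F) : Ω) := congrArg (fun w : R O F => ((w : F) : Ω)) hd
    rw [h5, map_mul]
    exact mul_le_of_le_one_right' ((O.valuation_le_one_iff _).2 d.2)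
  · rw [hvx]
    exact (val_lt_one_iff ϖ).1 hϖ.not_isUnit

end Groth.Agent.EtRamLib.Epp
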