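import Groth.Agent.EtRamLib.Epp.FullRes
import Groth.Agent.WEtale.Olivier
import Groth.Agent.Adic.CV.DimOne

/-!
# Unramified elements over complete discretely valued subfields
-/

set_option autoImplicit false
universe u

open IsLocalRing Polynomial

namespace Groth.Agent.EtRamLib.Epp

variable {Ω : Type u} [Field Ω] {O : ValuationSubring Ω}

/-- the reduction map to the residue field -/
noncomputable def rho (O : ValuationSubring Ω) (L : Subfield Ω) : R O L →+* kappa O L :=
  ((residue O).comp (EtRam.inclOfComap O L.subtype)).codRestrict (kappa O L) fun a => ⟨residue _ a, rfl⟩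

theorem rho_surjective (L : Subfield Ω) : Function.Surjective (rho O L) := fun z => by
  obtain ⟨x, hx, hxz⟩ := mem_kappa.mp z.2
  exact ⟨⟨⟨x, hx⟩, x.2⟩, Subtype.ext hxz⟩

/-- a root of a polynomial with separable reduction generates a weakly unramified extension -/
theorem wu_of_separable {L : Subfield Ω} (hL : Cpl O L) (t : O) (G : (R O L)[X]) (hG : G.Monic)
    (ht : aeval (t : Ω) G = 0) (hsep : (G.map (rho O L)).Separable) : WU O L (adj L (t : Ω)) := by
  classical
  haveI := hL.dvr
  haveI := hL.complete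
  obtain ⟨ϖ, hϖ⟩ := IsDiscreteValuationRing.exists_irreducible (R O L)
  haveI : IsAdicComplete (Ideal.span {ϖ}) (R O L) := by rw [← hϖ.maximalIdeal_eq]; infer_instance
  haveI := Adic.CV.DimOne.henselianLocalRing (R := R O L) hϖ.ne_zero
  haveI : IsScalarTower (R O L) L Ω := IsScalarTower.of_algebraMap_eq fun _ => rfl
  have hint : IsIntegral (R O L) (t : Ω) := ⟨G, hG, ht⟩
  let g₀ := minpoly (R O L) (t : Ω)
  have hg₀m : g₀.Monic := minpoly.monic hint
  let C := Algebra.adjoin (R O L) ({(t : Ω)} : Set Ω)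
  haveI : Module.Finite (R O L) C := Algebra.finite_adjoin_simple_of_isIntegral hint
  haveI : IsLocalRing C := WEtale.Olivier.isLocalRing_of_finite (A := R O L)
  let tC : C := ⟨(t : Ω), Algebra.subset_adjoin (Set.mem_singleton _)⟩
  have hsurjC : Function.Surjective (aeval tC : (R O L)[X] →ₐ[R O L] C) := by
    intro c
    have hc : (c : Ω) ∈ Algebra.adjoin (R O L) ({(t : Ω)} : Set Ω) := c.2
    rw [Algebra.adjoin_singleton_eq_range_aeval] at hc
    obtain ⟨f, hf⟩ := hc
    refine ⟨f, Subtype.ext ?_⟩
    rw [← hf]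
    exact (Polynomial.aeval_algHom_apply C.val tC f).symm
  -- units of `C` are units modulo `g₀`
  have hunit : ∀ f : (R O L)[X], IsUnit (aeval tC f) → ∀ q, Irreducible q → q ∣ g₀.map (rho O L) → ¬ q ∣ f.map (rho O L) := by
    intro f hf q hq hqg hqf
    obtain ⟨v, hv⟩ := hf.exists_right_inv
    obtain ⟨h, rfl⟩ := hsurjC v
    have h0 : aeval (t : Ω) (f * h - 1) = 0 := by
      have h1 := congrArg Subtype.val hv
      rw [MulMemClass.coe_mul, OneMemClass.coe_one, ← Subalgebra.coe_val, ← aeval_algHom_apply,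
        ← aeval_algHom_apply] at h1
      rw [map_sub, map_mul, map_one, sub_eq_zero]
      exact h1
    obtain ⟨k, hk⟩ := minpoly.isIntegrallyClosed_dvd hint h0
    have h2 := congrArg (Polynomial.map (rho O L)) hk
    rw [Polynomial.map_sub, Polynomial.map_mul, Polynomial.map_one, Polynomial.map_mul] at h2
    refine hq.not_isUnit (isUnit_of_dvd_one ?_)
    have e : (1 : (kappa O L)[X]) = f.map (rho O L) * h.map (rho O L) - g₀.map (rho O L) * k.map (rho O L) := by
      rw [← h2]; ring
    rw [e]
    exact dvd_sub (dvd_mul_of_dvd_left hqf _) (dvd_mul_of_dvd_left hqg _)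
  have hg₀sep : (g₀.map (rho O L)).Separable :=
    hsep.of_dvd (Polynomial.map_dvd _ (minpoly.isIntegrallyClosed_dvd hint ht))
  have hirr : Irreducible (g₀.map (rho O L)) := by
    have hdeg : 0 < (g₀.map (rho O L)).natDegree := by
      rw [hg₀m.natDegree_map]; exact minpoly.natDegree_pos hint
    refine ⟨fun hu => hdeg.ne' (natDegree_eq_zero_of_isUnit hu), fun a b hab => ?_⟩
    by_contra hcon
    rw [not_or] at hcon
    obtain ⟨ha, hb⟩ := hcon
    have hcop : IsCoprime a b := Separable.isCoprime (hab ▸ hg₀sep)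
    obtain ⟨u, v, huv⟩ := hcop
    obtain ⟨A, rfl⟩ := map_surjective (rho O L) (rho_surjective L) a
    obtain ⟨B, rfl⟩ := map_surjective (rho O L) (rho_surjective L) b
    obtain ⟨U, rfl⟩ := map_surjective (rho O L) (rho_surjective L) u
    obtain ⟨V, rfl⟩ := map_surjective (rho O L) (rho_surjective L) v
    have hA0 : A.map (rho O L) ≠ 0 := fun h => (hg₀m.map (rho O L)).ne_zero (by rw [hab, h, zero_mul])
    have hB0 : B.map (rho O L) ≠ 0 := fun h => (hg₀m.map (rho O L)).ne_zero (by rw [hab, h, mul_zero])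
    obtain ⟨qa, hqa, hqaA⟩ := WfDvdMonoid.exists_irreducible_factor ha hA0
    obtain ⟨qb, hqb, hqbB⟩ := WfDvdMonoid.exists_irreducible_factor hb hB0
    have hAm : aeval tC A ∈ maximalIdeal C := fun hu =>
      hunit A hu qa hqa (hqaA.trans (Dvd.intro _ hab.symm)) hqaA
    have hBm : aeval tC B ∈ maximalIdeal C := fun hu =>
      hunit B hu qb hqb (hqbB.trans (Dvd.intro_left _ hab.symm)) hqbB
    have hker : ∀ F : (R O L)[X], F.map (rho O L) = 0 → aeval tC F ∈ maximalIdeal C := by
      intro F hF hu
      exact hunit F hu qa hqa (hqaA.trans (Dvd.intro _ hab.symm)) (hF ▸ dvd_zero qa)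
    have h1 := hker (U * A + V * B - 1) (by simp [Polynomial.map_mul, huv])
    rw [map_sub, map_add, map_mul, map_mul, map_one] at h1
    have h2 : (1 : C) ∈ maximalIdeal C := by
      have h3 := sub_mem (add_mem (Ideal.mul_mem_left _ (aeval tC U) hAm) (Ideal.mul_mem_left _ (aeval tC V) hBm)) h1
      rwa [sub_sub_cancel] at h3
    exact h2 isUnit_one
  have hminL : minpoly L (t : Ω) = g₀.map (algebraMap (R O L) L) :=
    minpoly.isIntegrallyClosed_eq_field_fractions' L hint
  refine wu_of_residue t (g₀.map (algebraMap (R O L) L)) (hg₀m.map _) (by rw [← hminL]; exact minpoly.aeval L _) ?_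
  have hroot : aeval (residue O t) (g₀.map (rho O L)) = 0 := by
    have h1 : Polynomial.eval₂ (EtRam.inclOfComap O L.subtype) t g₀ = 0 := by
      refine Subtype.ext ?_
      change O.subtype _ = (0 : Ω)
      rw [Polynomial.hom_eval₂]
      exact minpoly.aeval (R O L) (t : Ω)
    rw [aeval_def, eval₂_map, show (algebraMap (kappa O L) (ResidueField O)).comp (rho O L) =
      (residue O).comp (EtRam.inclOfComap O L.subtype) from rfl, ← Polynomial.hom_eval₂, h1, map_zero]
  have hmin : minpoly (kappa O L) (residue O t) = g₀.map (rho O L) :=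
    (minpoly.eq_of_irreducible_of_monic hirr hroot (hg₀m.map _)).symm
  rw [hmin, hg₀m.natDegree_map, hg₀m.natDegree_map]

end Groth.Agent.EtRamLib.Epp
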